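import Groth.Agent.WittDesc.Canon

/-! Effectiveness and full faithfulness of descent for projective modules over truncated Witt vectors. -/

set_option autoImplicit false
set_option backward.isDefEq.respectTransparency false
set_option backward.isDefEq.respectTransparency.types false
set_option linter.style.haveILetI false
set_option linter.auxLemma false

universe u

open CategoryTheory Opposite TensorProduct Matrix
open scoped ChangeOfRings

noncomputable section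

namespace Groth.Agent.WittDesc.DD

variable {G : CommRingCat.{u} ⥤ CommRingCat.{u}} {R S : Type u} [CommRing R] [CommRing S] [Algebra R S]

local notation "𝖋₀" => (f₀ (R := R) (S := S))

theorem wr_comp {A B C : CommRingCat.{u}ᵒᵖ} (f : B ⟶ A) (g : C ⟶ B) (x : WR G A) :
    wr g (wr f x) = wr (g ≫ f) x := by
  show _ = (G.map (f.unop ≫ g.unop)).hom x
  rw [G.map_comp]
  rfl

theorem extMap_cmp_one {A B C : CommRingCat.{u}ᵒᵖ} (f : B ⟶ A) (g : C ⟶ B) (h : C ⟶ A) (e : g ≫ f = h)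
    (M : ModuleCat.{u} (WR G A)) {N : ModuleCat.{u} (WR G B)} (φ : ext f M ⟶ N) (x : M) :
    (cmp f g h e M ≫ extMap g φ) (one h M x) = one g N (φ (one f M x)) := by
  rw [ModuleCat.comp_apply, cmp_one f g h e M x, extMap_one]

section Symbolic

variable {A B C : CommRingCat.{u}ᵒᵖ} (f : B ⟶ A) (M : ModuleCat.{u} (WR G A)) {N : ModuleCat.{u} (WR G B)}

theorem to_cmp (g : C ⟶ B) (h : C ⟶ A) (e : g ≫ f = h)
    (c : ((pf G).map h.op.toLoc).toFunctor.obj M ⟶ ((pf G).map g.op.toLoc).toFunctor.obj (((pf G).map f.op.toLoc).toFunctor.obj M))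
    (hc : c = ((pf G).mapComp' f.op.toLoc g.op.toLoc h.op.toLoc (cmp._proof_1 f g h e)).hom.toNatTrans.app M) :
    c = cmp f g h e M := hc.trans (cmp_eq f g h e M).symm

theorem comm_symbolic (a b : C ⟶ B) (q : C ⟶ A) (ha : a ≫ f = q) (hb : b ≫ f = q)
    (φ : ext f M ⟶ N) (k : ext a N ⟶ ext b N)
    (h : ∀ x : M, k (one a N (φ (one f M x))) = one b N (φ (one f M x))) :
    cmp f a q ha M ≫ extMap a φ ≫ k = cmp f b q hb M ≫ extMap b φ := by
  refine ext_hom _ _ fun x => ?_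
  rw [← Category.assoc, ModuleCat.comp_apply, extMap_cmp_one, extMap_cmp_one]
  exact h x

end Symbolic

section CompEq

variable {A B C : CommRingCat.{u}ᵒᵖ} (f : B ⟶ A) (g : C ⟶ B) (h : C ⟶ A)
  (M : (pf G).obj (.mk (op A))) {N : (pf G).obj (.mk (op B))} (φ : ((pf G).map f.op.toLoc).toFunctor.obj M ⟶ N)
  (c : ((pf G).map h.op.toLoc).toFunctor.obj M ⟶ ((pf G).map g.op.toLoc).toFunctor.obj (((pf G).map f.op.toLoc).toFunctor.obj M))

theorem comp3_eq {P : (pf G).obj (.mk (op C))} (k : ((pf G).map g.op.toLoc).toFunctor.obj N ⟶ P) : c ≫ ((pf G).map g.op.toLoc).toFunctor.map φ ≫ k =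
    @CategoryStruct.comp (ModuleCat.{u} (WR G C)) _ (ext h M) (ext g (ext f M)) P c
      (@CategoryStruct.comp (ModuleCat.{u} (WR G C)) _ (ext g (ext f M)) (ext g N) P (extMap g φ) k) := rfl

theorem comp2_eq : c ≫ ((pf G).map g.op.toLoc).toFunctor.map φ =
    @CategoryStruct.comp (ModuleCat.{u} (WR G C)) _ (ext h M) (ext g (ext f M)) (ext g N) c (extMap g φ) := rfl

theorem bridge_symbolic {A B C : CommRingCat.{u}ᵒᵖ} (f : B ⟶ A) (M : ModuleCat.{u} (WR G A)) (N : ModuleCat.{u} (WR G B))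
    (a b : C ⟶ B) (q : C ⟶ A) (ha : a ≫ f = q) (hb : b ≫ f = q)
    (φ : ((pf G).map f.op.toLoc).toFunctor.obj M ⟶ N)
    (k : ((pf G).map a.op.toLoc).toFunctor.obj N ⟶ ((pf G).map b.op.toLoc).toFunctor.obj N)
    (cA : ((pf G).map q.op.toLoc).toFunctor.obj M ⟶ ((pf G).map a.op.toLoc).toFunctor.obj (((pf G).map f.op.toLoc).toFunctor.obj M))
    (cB : ((pf G).map q.op.toLoc).toFunctor.obj M ⟶ ((pf G).map b.op.toLoc).toFunctor.obj (((pf G).map f.op.toLoc).toFunctor.obj M))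
    (hA : cA = ((pf G).mapComp' f.op.toLoc a.op.toLoc q.op.toLoc (cmp._proof_1 f a q ha)).hom.toNatTrans.app M)
    (hB : cB = ((pf G).mapComp' f.op.toLoc b.op.toLoc q.op.toLoc (cmp._proof_1 f b q hb)).hom.toNatTrans.app M)
    (h : ∀ x : M, (show ext a N ⟶ ext b N from k) (one a N ((show ext f M ⟶ N from φ) (one f M x))) =
      one b N ((show ext f M ⟶ N from φ) (one f M x))) :
    cA ≫ ((pf G).map a.op.toLoc).toFunctor.map φ ≫ k = cB ≫ ((pf G).map b.op.toLoc).toFunctor.map φ := by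
  obtain rfl : cA = cmp f a q ha M := to_cmp f M a q ha cA hA
  obtain rfl : cB = cmp f b q hb M := to_cmp f M b q hb cB hB
  exact (comp3_eq f a q M φ _ k).trans ((comm_symbolic f M a b q ha hb φ k h).trans (comp2_eq f b q M φ _).symm)

/-- An isomorphism with a descent datum, checked on generators. -/
theorem nonempty_iso_of_one {A B : CommRingCat.{u}ᵒᵖ} (f : B ⟶ A) (M : ModuleCat.{u} (WR G A))
    (D : (pf G).DescentData (fun _ : PUnit.{u + 1} => f))
    (e : ((pf G).map f.op.toLoc).toFunctor.obj M ≅ D.obj PUnit.unit)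
    (h : ∀ (Y : CommRingCat.{u}ᵒᵖ) (q : Y ⟶ A) (a b : Y ⟶ B) (ha : a ≫ f = q) (hb : b ≫ f = q) (x : M),
      (show ext a (D.obj PUnit.unit) ⟶ ext b (D.obj PUnit.unit) from
        D.hom q (i₁ := PUnit.unit) (i₂ := PUnit.unit) a b ha hb)
          (one a (D.obj PUnit.unit) ((show ext f M ⟶ D.obj PUnit.unit from e.hom) (one f M x))) =
        one b (D.obj PUnit.unit) ((show ext f M ⟶ D.obj PUnit.unit from e.hom) (one f M x))) :
    Nonempty (((pf G).toDescentData (fun _ : PUnit.{u + 1} => f)).obj M ≅ D) :=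
  nonempty_iso_of_comm' (pf G) f M D e fun Y q a b ha hb cA cB hA hB =>
    bridge_symbolic f M (D.obj PUnit.unit) a b q ha hb e.hom
      (D.hom q (i₁ := PUnit.unit) (i₂ := PUnit.unit) a b ha hb) cA cB (hA _) (hB _) (h Y q a b ha hb)

end CompEq

/-- Descended data give an isomorphic datum. -/
theorem exists_iso (D : (pf G).DescentData (fun _ : PUnit.{u + 1} => (CommRingCat.ofHom (algebraMap R S)).op))
    {m : ℕ} (F : Frame (obj D) m) {r : ℕ} (V : Matrix (Fin m) (Fin r) (WR G (op (CommRingCat.of S))))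
    (U : Matrix (Fin r) (Fin m) (WR G (op (CommRingCat.of S))))
    (f : Matrix (Fin r) (Fin r) (WR G (op (CommRingCat.of R))))
    (hV : F.idem * V = V) (hU : U * F.idem = U)
    (hAV : mat D F pa pb e2 * V.map (wr pa) = V.map (wr pb)) (hVU : V * U = F.idem) (hff : f * f = f)
    (hf : f.map (wr 𝖋₀) = U * V) :
    ∃ M : ModuleCat.{u} (WR G (op (CommRingCat.of R))),
      Module.Finite (WR G (op (CommRingCat.of R))) M ∧ Module.Projective (WR G (op (CommRingCat.of R))) M ∧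
        Nonempty (((pf G).toDescentData
          (fun _ : PUnit.{u + 1} => (CommRingCat.ofHom (algebraMap R S)).op)).obj M ≅ D) := by
  let Pf : Submodule (WR G (op (CommRingCat.of R))) (Fin r → WR G (op (CommRingCat.of R))) :=
    LinearMap.range f.mulVecLin
  have hfix : ∀ q : Pf, f *ᵥ (q : Fin r → WR G (op (CommRingCat.of R))) = q := by
    rintro ⟨_, w, rfl⟩
    show f *ᵥ (f *ᵥ w) = f *ᵥ w
    rw [Matrix.mulVec_mulVec, hff]
  let M : ModuleCat.{u} (WR G (op (CommRingCat.of R))) := ModuleCat.of _ Pf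
  let pr : (Fin r → WR G (op (CommRingCat.of R))) →ₗ[WR G (op (CommRingCat.of R))] Pf :=
    f.mulVecLin.rangeRestrict
  haveI hfin : Module.Finite (WR G (op (CommRingCat.of R))) M :=
    Module.Finite.of_surjective pr f.mulVecLin.surjective_rangeRestrict
  haveI hproj : Module.Projective (WR G (op (CommRingCat.of R))) M :=
    Module.Projective.of_split Pf.subtype pr (LinearMap.ext fun q => Subtype.ext (hfix q))
  refine ⟨M, hfin, hproj, ?_⟩
  have hVf : ∀ q : Pf, V *ᵥ (wr 𝖋₀ ∘ (q : Fin r → WR G (op (CommRingCat.of R)))) = F.idem *ᵥ (V *ᵥ (wr 𝖋₀ ∘ (q : Fin r → WR G (op (CommRingCat.of R))))) := fun q => by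
    rw [Matrix.mulVec_mulVec, hV]
  let g : M →+ obj D := AddMonoidHom.mk' (fun q : Pf => F.s (V *ᵥ (wr 𝖋₀ ∘ (q : Fin r → WR G (op (CommRingCat.of R)))))) fun a b => by
    rw [← map_add, ← Matrix.mulVec_add]
    exact congrArg (fun z => F.s (V *ᵥ z)) (funext fun l => map_add (wr 𝖋₀) _ _)
  obtain ⟨φ, hφ⟩ := exists_ext_lift 𝖋₀ M (obj D) g fun c q => by
    show F.s (V *ᵥ (wr 𝖋₀ ∘ (c • (show Pf from q) : Pf).1)) = wr 𝖋₀ c • F.s (V *ᵥ (wr 𝖋₀ ∘ (show Pf from q).1))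
    rw [← map_smul, ← Matrix.mulVec_smul]
    exact congrArg (fun z => F.s (V *ᵥ z)) (funext fun l => map_mul (wr 𝖋₀) _ _)
  let e : ext 𝖋₀ M ⟶ obj D := ModuleCat.ofHom φ
  have he1 : ∀ q : M, e (one 𝖋₀ M q) = F.s (V *ᵥ (wr 𝖋₀ ∘ (show Pf from q).1)) := hφ
  let ψ : obj D →ₗ[WR G (op (CommRingCat.of S))] ext 𝖋₀ M :=
    (∑ l : Fin r, (LinearMap.proj l).smulRight (one 𝖋₀ M (pr (Pi.single l 1)))) ∘ₗ U.mulVecLin ∘ₗ F.i
  have hψ : ∀ x, ψ x = ∑ l, (U *ᵥ F.i x) l • one 𝖋₀ M (pr (Pi.single l 1)) := fun x => by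
    simp only [ψ, LinearMap.comp_apply, LinearMap.sum_apply]
    rfl
  have hcol : ∀ l, wr (G := G) 𝖋₀ ∘ (pr (Pi.single l 1) : Pf).1 = fun i => (U * V) i l := fun l => by
    funext i
    rw [← hf]
    show wr 𝖋₀ ((f *ᵥ Pi.single l 1) i) = _
    rw [Matrix.mulVec_single_one]
    rfl
  have heψ : ∀ x, e (ψ x) = x := fun x => by
    rw [hψ, map_sum]
    simp only [map_smul, he1, hcol]
    rw [show (∑ l, (U *ᵥ F.i x) l • F.s (V *ᵥ fun i => (U * V) i l)) =
        F.s (V *ᵥ ((U * V) *ᵥ (U *ᵥ F.i x))) by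
      simp only [← map_smul, ← map_sum, ← Matrix.mulVec_smul, ← Matrix.mulVec_sum]
      congr 2
      funext i
      simp [Matrix.mulVec, dotProduct, mul_comm, Finset.sum_apply]]
    rw [Matrix.mulVec_mulVec, ← Matrix.mul_assoc, hVU, hV, Matrix.mulVec_mulVec, hVU, F.idem_mulVec, F.si, F.si]
  have hψe : ∀ q : M, ψ (e (one 𝖋₀ M q)) = one 𝖋₀ M q := fun q => by
    rw [he1, hψ]
    have h1 : U *ᵥ F.i (F.s (V *ᵥ (wr 𝖋₀ ∘ (show Pf from q).1))) = wr 𝖋₀ ∘ (show Pf from q).1 := by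
      rw [← F.idem_mulVec, ← hVf, Matrix.mulVec_mulVec, ← hf]
      conv_rhs => rw [← hfix (show Pf from q)]
      exact (funext fun i => RingHom.map_mulVec (wr 𝖋₀) f _ i).symm
    rw [h1]
    have hq : (q : M) = ∑ l, (show Pf from q).1 l • (show M from pr (Pi.single l 1)) := by
      show (show Pf from q) = ∑ l, (show Pf from q).1 l • pr (Pi.single l 1)
      simp only [← map_smul, ← map_sum]
      refine Subtype.ext ((hfix _).symm.trans ?_)
      show f *ᵥ _ = f *ᵥ _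
      congr 1
      funext i
      simp [Finset.sum_apply, Pi.single_apply]
    conv_rhs => rw [hq, one_sum]
    exact Finset.sum_congr rfl fun l _ => (one_smul' 𝖋₀ M _ _).symm
  have hψe' : ∀ z, ψ (e z) = z := fun z => by
    have h : e ≫ ModuleCat.ofHom ψ = 𝟙 (ext 𝖋₀ M) := ext_hom 𝖋₀ M hψe
    exact congrArg (fun t : ext 𝖋₀ M ⟶ ext 𝖋₀ M => t z) h
  have hbij : Function.Bijective e := Function.bijective_iff_has_inverse.2 ⟨ψ, hψe', heψ⟩
  haveI : IsIso e := (ConcreteCategory.isIso_iff_bijective e).2 hbij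
  refine nonempty_iso_of_one 𝖋₀ M D (asIso e) fun Y q a b ha hb x => ?_
  subst ha
  have hab : b ≫ 𝖋₀ = a ≫ 𝖋₀ := hb
  show H D a b hab (one a (obj D) (e (one 𝖋₀ M x))) = one b (obj D) (e (one 𝖋₀ M x))
  obtain ⟨g, hga, hgb⟩ := exists_lift_overlap a b hab
  refine F.co_injective b ?_
  rw [co_H, Frame.co_one, Frame.co_one, he1, ← F.idem_mulVec, ← hVf,
    mat_natural D F pa pb e2 g a b hga hgb hab]
  generalize (show Pf from x).1 = w
  have h1 : ∀ (v : Fin m → WR G (op (CommRingCat.of S))) (c : Y2 (R := R) (S := S) ⟶ op (CommRingCat.of S))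
      (c' : Y ⟶ op (CommRingCat.of S)), g ≫ c = c' → wr c' ∘ v = wr g ∘ (wr c ∘ v) := fun v c c' h =>
    funext fun i => (h ▸ (wr_comp c g (v i)).symm)
  rw [h1 _ pa a hga, h1 _ pb b hgb]
  have h2 : ∀ c : Y2 (R := R) (S := S) ⟶ op (CommRingCat.of S),
      wr (G := G) c ∘ (V *ᵥ (wr 𝖋₀ ∘ w)) = V.map (wr c) *ᵥ (wr (c ≫ 𝖋₀) ∘ w) := fun c => funext fun i => by
    rw [Function.comp_apply, RingHom.map_mulVec]
    exact congrArg (fun z => (V.map (wr c) *ᵥ z) i) (funext fun j => wr_comp 𝖋₀ c (w j))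
  rw [← funext fun i => RingHom.map_mulVec (wr g) (mat D F pa pb e2) (wr pa ∘ (V *ᵥ (wr 𝖋₀ ∘ w))) i]
  refine congrArg (fun v => wr g ∘ v) ?_
  rw [h2, h2, Matrix.mulVec_mulVec, hAV, e2]

theorem sandwich_one {A B C : CommRingCat.{u}ᵒᵖ} (f : B ⟶ A) (g : C ⟶ B) (h : C ⟶ A) (e : g ≫ f = h)
    (M N : ModuleCat.{u} (WR G A)) {n : ℕ} (FN : Frame N n) (φ : ext f M ⟶ ext f N) (x : M) :
    FN.co h ((cmp f g h e M ≫ extMap g φ ≫ cmpInv f g h e N) (one h M x)) = wr g ∘ FN.co f (φ (one f M x)) := by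
  rw [ModuleCat.comp_apply, ModuleCat.comp_apply, cmp_one f g h e M x, extMap_one, Frame.co_cmpInv]

theorem hom_comm (N M : ModuleCat.{u} (WR G (op (CommRingCat.of R))))
    (ψ : ((pf G).toDescentData (fun _ : PUnit.{u + 1} => 𝖋₀)).obj M ⟶
      ((pf G).toDescentData (fun _ : PUnit.{u + 1} => 𝖋₀)).obj N) :
    cmp 𝖋₀ pa (pa (R := R) (S := S) ≫ 𝖋₀) rfl M ≫ extMap pa (ψ.hom PUnit.unit) ≫ cmpInv 𝖋₀ pa (pa (R := R) (S := S) ≫ 𝖋₀) rfl N =
      cmp 𝖋₀ pb (pa (R := R) (S := S) ≫ 𝖋₀) e2 M ≫ extMap pb (ψ.hom PUnit.unit) ≫ cmpInv 𝖋₀ pb (pa (R := R) (S := S) ≫ 𝖋₀) e2 N :=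
  comm_of_hom (pf G) 𝖋₀ M N ψ (pa (R := R) (S := S) ≫ 𝖋₀) pa pb rfl e2 (cmp._proof_1 𝖋₀ pa _ rfl) (cmp._proof_1 𝖋₀ pb _ e2)


/-- Morphisms of canonical data are fixed coordinatewise. -/
theorem exists_hom (N M : ModuleCat.{u} (WR G (op (CommRingCat.of R)))) {mM mN : ℕ}
    (FM : Frame M mM) (FN : Frame N mN)
    (heq : ∀ x : WR G (op (CommRingCat.of S)), wr (pb (R := R)) x = wr (pa (R := R)) x →
      ∃ y : WR G (op (CommRingCat.of R)), wr 𝖋₀ y = x)
    (ψ : ((pf G).toDescentData (fun _ : PUnit.{u + 1} => (CommRingCat.ofHom (algebraMap R S)).op)).obj M ⟶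
      ((pf G).toDescentData (fun _ : PUnit.{u + 1} => (CommRingCat.ofHom (algebraMap R S)).op)).obj N) :
    ∃ φ : M ⟶ N,
      ((pf G).toDescentData (fun _ : PUnit.{u + 1} => (CommRingCat.ofHom (algebraMap R S)).op)).map φ = ψ := by
  let h : ext 𝖋₀ M ⟶ ext 𝖋₀ N := ψ.hom PUnit.unit
  have hc : ∀ x : M, wr (pb (R := R) (S := S)) ∘ FN.co 𝖋₀ (h (one 𝖋₀ M x)) =
      wr (pa (R := R) (S := S)) ∘ FN.co 𝖋₀ (h (one 𝖋₀ M x)) := by
    intro x
    have hcomm : cmp 𝖋₀ pa (pa (R := R) (S := S) ≫ 𝖋₀) rfl M ≫ extMap pa h ≫ cmpInv 𝖋₀ pa (pa (R := R) (S := S) ≫ 𝖋₀) rfl N =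
        cmp 𝖋₀ pb (pa (R := R) (S := S) ≫ 𝖋₀) e2 M ≫ extMap pb h ≫ cmpInv 𝖋₀ pb (pa (R := R) (S := S) ≫ 𝖋₀) e2 N :=
      hom_comm N M ψ
    exact (sandwich_one 𝖋₀ pb (pa (R := R) (S := S) ≫ 𝖋₀) e2 M N FN h x).symm.trans
      ((congrArg (fun t : ext (pa (R := R) (S := S) ≫ 𝖋₀) M ⟶ ext (pa (R := R) (S := S) ≫ 𝖋₀) N =>
        FN.co _ (t (one _ M x))) hcomm.symm).trans (sandwich_one 𝖋₀ pa (pa (R := R) (S := S) ≫ 𝖋₀) rfl M N FN h x))
  choose X hX using fun (j : Fin mM) (l : Fin mN) =>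
    heq (FN.co 𝖋₀ (h (one 𝖋₀ M (FM.s (Pi.single j 1)))) l) (congrFun (hc (FM.s (Pi.single j 1))) l)
  let φ : M ⟶ N := ModuleCat.ofHom (FN.s ∘ₗ (Matrix.of fun l j => X j l).mulVecLin ∘ₗ FM.i)
  refine ⟨φ, Pseudofunctor.DescentData.hom_ext fun _ => ?_⟩
  show extMap 𝖋₀ φ = h
  refine ext_hom _ _ fun x => FN.co_injective 𝖋₀ ?_
  rw [extMap_one, Frame.co_one]
  conv_rhs => rw [FM.one_eq 𝖋₀ x, map_sum, map_sum]
  show wr 𝖋₀ ∘ FN.i (FN.s ((Matrix.of fun l j => X j l) *ᵥ FM.i x)) = _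
  rw [← FN.idem_mulVec]
  have h3 : (FN.idem.map (wr (G := G) 𝖋₀)) *ᵥ (wr (G := G) 𝖋₀ ∘ ((Matrix.of fun l j => X j l) *ᵥ FM.i x)) =
      wr (G := G) 𝖋₀ ∘ (FN.idem *ᵥ ((Matrix.of fun l j => X j l) *ᵥ FM.i x)) :=
    funext fun i => (RingHom.map_mulVec _ _ _ i).symm
  rw [← h3]
  have h4 : wr (G := G) 𝖋₀ ∘ ((Matrix.of fun l j => X j l) *ᵥ FM.i x) =
      FN.co 𝖋₀ (∑ j, wr 𝖋₀ (FM.i x j) • h (one 𝖋₀ M (FM.s (Pi.single j 1)))) := by
    funext l
    refine Eq.trans ?_ (congrFun (map_sum (FN.co 𝖋₀)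
      (fun j : Fin mM => wr (G := G) 𝖋₀ (FM.i x j) • h (one 𝖋₀ M (FM.s (Pi.single j 1)))) Finset.univ).symm l)
    rw [Finset.sum_apply, Function.comp_apply, RingHom.map_mulVec]
    simp only [Matrix.mulVec, dotProduct]
    refine Finset.sum_congr (M := WR G (op (CommRingCat.of S))) rfl fun j _ => ?_
    rw [map_smul, Pi.smul_apply, smul_eq_mul, ← hX j l]
    exact mul_comm _ _
  rw [h4, ← FN.co_se, FN.se_co, map_sum]
  exact Finset.sum_congr rfl fun j _ =>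
    (congrArg (FN.co 𝖋₀) (h.hom.map_smul _ _)).symm

/-- The functor to descent data is faithful on framed modules. -/
theorem toDescentData_map_injective {A B : CommRingCat.{u}ᵒᵖ} (f : B ⟶ A) (hf : Function.Injective (wr (G := G) f))
    (M N : ModuleCat.{u} (WR G A)) {n : ℕ} (FN : Frame N n) (φ φ' : M ⟶ N)
    (h : ((pf G).toDescentData (fun _ : PUnit.{u + 1} => f)).map φ =
      ((pf G).toDescentData (fun _ : PUnit.{u + 1} => f)).map φ') : φ = φ' := by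
  have h1 : extMap f φ = extMap f φ' := congrArg (fun t => t.hom PUnit.unit) h
  refine ModuleCat.hom_ext (LinearMap.ext fun x => ?_)
  have h2 : wr f ∘ FN.i (φ x) = wr f ∘ FN.i (φ' x) := by
    rw [← FN.co_one, ← FN.co_one]
    exact congrArg (FN.co f) ((extMap_one f φ x).symm.trans
      ((congrArg (fun t : ext f M ⟶ ext f N => t (one f M x)) h1).trans (extMap_one f φ' x)))
  have h3 : FN.i (φ x) = FN.i (φ' x) := funext fun l => hf (congrFun h2 l)
  exact (FN.si _).symm.trans ((congrArg FN.s h3).trans (FN.si _))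

/-- Full faithfulness on framed modules, for a pseudofunctor equal to `pf G`. -/
theorem bijective_map_of_eq (F : Pseudofunctor (LocallyDiscrete (Opposite.{u+2} (CommRingCat.{u}ᵒᵖ))) Cat.{u, u + 1})
    (hF : F = pf G) (M N : F.obj (.mk (op (op (CommRingCat.of R)))))
    (hM : ∀ (M' : ModuleCat.{u} (WR G (op (CommRingCat.of R)))), HEq M M' →
      ∃ m, Nonempty (Frame M' m))
    (hN : ∀ (N' : ModuleCat.{u} (WR G (op (CommRingCat.of R)))), HEq N N' →
      ∃ m, Nonempty (Frame N' m))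
    (hinj : Function.Injective (wr (G := G) 𝖋₀))
    (heq : ∀ x : WR G (op (CommRingCat.of S)), wr (pb (R := R)) x = wr (pa (R := R)) x →
      ∃ y : WR G (op (CommRingCat.of R)), wr 𝖋₀ y = x) :
    Function.Bijective (fun φ : M ⟶ N =>
      (F.toDescentData (fun _ : PUnit.{u + 1} => (CommRingCat.ofHom (algebraMap R S)).op)).map φ) := by
  subst hF
  obtain ⟨mM, ⟨FM⟩⟩ := hM M HEq.rfl
  obtain ⟨mN, ⟨FN⟩⟩ := hN N HEq.rfl
  exact ⟨fun φ φ' h => toDescentData_map_injective (CommRingCat.ofHom (algebraMap R S)).op hinj M N FN φ φ' h,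
    fun ψ => exists_hom N M FM FN heq ψ⟩

end Groth.Agent.WittDesc.DD
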