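import Groth.Agent.WittDesc.Cat

/-! The canonical descent datum of a pseudofunctor on affine schemes, in a form usable elementwise.

The pseudofunctor variable is typed with explicit universe levels on purpose: otherwise its type is not
syntactically that of `pf G` and the kernel unfolds the composite pseudofunctor. -/

set_option autoImplicit false
set_option backward.isDefEq.respectTransparency false
set_option backward.isDefEq.respectTransparency.types false
set_option linter.auxLemma false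

universe u

open CategoryTheory Opposite

noncomputable section

namespace Groth.Agent.WittDesc.DD

section Generic

variable (F : Pseudofunctor (LocallyDiscrete (Opposite.{u+2} (CommRingCat.{u}ᵒᵖ))) Cat.{u, u + 1})
  {A B : CommRingCat.{u}ᵒᵖ} (f : B ⟶ A)

theorem canon_hom (M : F.obj (.mk (op A))) {Y : CommRingCat.{u}ᵒᵖ} (q : Y ⟶ A) (a b : Y ⟶ B)
    (ha : a ≫ f = q) (hb : b ≫ f = q)
    (p1 : f.op.toLoc ≫ a.op.toLoc = q.op.toLoc) (p2 : f.op.toLoc ≫ b.op.toLoc = q.op.toLoc) :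
    (((F.toDescentData (fun _ : PUnit.{u + 1} => f)).obj M).hom q (i₁ := PUnit.unit) (i₂ := PUnit.unit) a b ha hb) =
    (F.mapComp' f.op.toLoc a.op.toLoc q.op.toLoc p1).inv.toNatTrans.app M ≫
     (F.mapComp' f.op.toLoc b.op.toLoc q.op.toLoc p2).hom.toNatTrans.app M := rfl

/-- An isomorphism from a canonical datum. -/
theorem nonempty_iso_of_comm (M : F.obj (.mk (op A))) (D : F.DescentData (fun _ : PUnit.{u + 1} => f))
    (e : (F.map f.op.toLoc).toFunctor.obj M ≅ D.obj PUnit.unit)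
    (pr : ∀ {A B C : CommRingCat.{u}ᵒᵖ} (f : B ⟶ A) (g : C ⟶ B) (h : C ⟶ A),
      g ≫ f = h → f.op.toLoc ≫ g.op.toLoc = h.op.toLoc)
    (h : ∀ (Y : CommRingCat.{u}ᵒᵖ) (a b : Y ⟶ B) (hab : b ≫ f = a ≫ f),
      (F.mapComp' f.op.toLoc a.op.toLoc (a ≫ f).op.toLoc (pr f a (a ≫ f) rfl)).hom.toNatTrans.app M ≫
        (F.map a.op.toLoc).toFunctor.map e.hom ≫
          D.hom (a ≫ f) (i₁ := PUnit.unit) (i₂ := PUnit.unit) a b rfl hab =
      (F.mapComp' f.op.toLoc b.op.toLoc (a ≫ f).op.toLoc (pr f b (a ≫ f) hab)).hom.toNatTrans.app M ≫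
        (F.map b.op.toLoc).toFunctor.map e.hom) :
    Nonempty ((F.toDescentData (fun _ : PUnit.{u + 1} => f)).obj M ≅ D) := by
  refine ⟨Pseudofunctor.DescentData.isoMk (fun _ => e) ?_⟩
  rintro Y q ⟨⟩ ⟨⟩ a b ha hb
  subst ha
  rw [canon_hom F f M (a ≫ f) a b rfl hb rfl (congrArg (fun t => t.op.toLoc) hb), Category.assoc,
    ← h Y a b hb, Cat.Hom.inv_hom_id_toNatTrans_app_assoc]

/-- An isomorphism from a canonical datum, with the comparison maps as variables. -/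
theorem nonempty_iso_of_comm' (M : F.obj (.mk (op A))) (D : F.DescentData (fun _ : PUnit.{u + 1} => f))
    (e : (F.map f.op.toLoc).toFunctor.obj M ≅ D.obj PUnit.unit)
    (h : ∀ (Y : CommRingCat.{u}ᵒᵖ) (q : Y ⟶ A) (a b : Y ⟶ B) (ha : a ≫ f = q) (hb : b ≫ f = q)
      (cA : (F.map q.op.toLoc).toFunctor.obj M ⟶ (F.map a.op.toLoc).toFunctor.obj ((F.map f.op.toLoc).toFunctor.obj M))
      (cB : (F.map q.op.toLoc).toFunctor.obj M ⟶ (F.map b.op.toLoc).toFunctor.obj ((F.map f.op.toLoc).toFunctor.obj M)),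
      (∀ p : f.op.toLoc ≫ a.op.toLoc = q.op.toLoc,
        cA = (F.mapComp' f.op.toLoc a.op.toLoc q.op.toLoc p).hom.toNatTrans.app M) →
      (∀ p : f.op.toLoc ≫ b.op.toLoc = q.op.toLoc,
        cB = (F.mapComp' f.op.toLoc b.op.toLoc q.op.toLoc p).hom.toNatTrans.app M) →
      cA ≫ (F.map a.op.toLoc).toFunctor.map e.hom ≫
          D.hom q (i₁ := PUnit.unit) (i₂ := PUnit.unit) a b ha hb =
        cB ≫ (F.map b.op.toLoc).toFunctor.map e.hom) :
    Nonempty ((F.toDescentData (fun _ : PUnit.{u + 1} => f)).obj M ≅ D) :=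
  nonempty_iso_of_comm F f M D e (fun _ _ _ hh => congrArg (fun t => t.op.toLoc) hh) fun Y a b hab =>
    h Y (a ≫ f) a b rfl hab _ _ (fun _ => rfl) (fun _ => rfl)

/-- The compatibility of a morphism of canonical data. -/
theorem comm_of_hom (M N : F.obj (.mk (op A)))
    (ψ : (F.toDescentData (fun _ : PUnit.{u + 1} => f)).obj M ⟶ (F.toDescentData (fun _ : PUnit.{u + 1} => f)).obj N)
    {Y : CommRingCat.{u}ᵒᵖ} (q : Y ⟶ A) (a b : Y ⟶ B) (ha : a ≫ f = q) (hb : b ≫ f = q)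
    (p1 : f.op.toLoc ≫ a.op.toLoc = q.op.toLoc) (p2 : f.op.toLoc ≫ b.op.toLoc = q.op.toLoc) :
    (F.mapComp' f.op.toLoc a.op.toLoc q.op.toLoc p1).hom.toNatTrans.app M ≫
      (F.map a.op.toLoc).toFunctor.map (ψ.hom PUnit.unit) ≫
        (F.mapComp' f.op.toLoc a.op.toLoc q.op.toLoc p1).inv.toNatTrans.app N =
    (F.mapComp' f.op.toLoc b.op.toLoc q.op.toLoc p2).hom.toNatTrans.app M ≫
      (F.map b.op.toLoc).toFunctor.map (ψ.hom PUnit.unit) ≫
        (F.mapComp' f.op.toLoc b.op.toLoc q.op.toLoc p2).inv.toNatTrans.app N := by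
  have h := ψ.comm q (i₁ := PUnit.unit) (i₂ := PUnit.unit) a b ha hb
  rw [canon_hom F f M q a b ha hb p1 p2, canon_hom F f N q a b ha hb p1 p2] at h
  have h2 := (F.mapComp' f.op.toLoc a.op.toLoc q.op.toLoc p1).hom.toNatTrans.app M ≫= h =≫
    (F.mapComp' f.op.toLoc b.op.toLoc q.op.toLoc p2).inv.toNatTrans.app N
  simpa only [Category.assoc, Cat.Hom.hom_inv_id_toNatTrans_app, Category.comp_id,
    Cat.Hom.hom_inv_id_toNatTrans_app_assoc] using h2

end Generic

variable {G : CommRingCat.{u} ⥤ CommRingCat.{u}}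

theorem cmp_eq {A B C : CommRingCat.{u}ᵒᵖ} (f : B ⟶ A) (g : C ⟶ B) (h : C ⟶ A) (e : g ≫ f = h)
    (M : (pf G).obj (.mk (op A))) : cmp f g h e M =
      ((pf G).mapComp' f.op.toLoc g.op.toLoc h.op.toLoc (cmp._proof_1 f g h e)).hom.toNatTrans.app M := rfl

theorem cmpInv_eq {A B C : CommRingCat.{u}ᵒᵖ} (f : B ⟶ A) (g : C ⟶ B) (h : C ⟶ A) (e : g ≫ f = h)
    (M : (pf G).obj (.mk (op A))) : cmpInv f g h e M =
      ((pf G).mapComp' f.op.toLoc g.op.toLoc h.op.toLoc (cmp._proof_1 f g h e)).inv.toNatTrans.app M := rfl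

end Groth.Agent.WittDesc.DD
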