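import Groth.Agent.TorsorLift.Descent
import Groth.Agent.GmTorsor.Alg
import Mathlib

/-! Descent data for projective modules, written with matrices. -/

set_option autoImplicit false
set_option linter.style.haveILetI false
universe u

open Matrix TensorProduct

noncomputable section

namespace Groth.Agent.WittDesc

/-- The maps of a truncated Čech nerve of rings. -/
structure Nerve (A₁ A₂ A₃ : Type u) [CommRing A₁] [CommRing A₂] [CommRing A₃] where
  /-- first projection -/
  pa : A₁ →+* A₂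
  /-- second projection -/
  pb : A₁ →+* A₂
  /-- the face to the vertices 0, 1 -/
  f12 : A₂ →+* A₃
  /-- the face to the vertices 0, 2 -/
  f13 : A₂ →+* A₃
  /-- the face to the vertices 1, 2 -/
  f23 : A₂ →+* A₃
  /-- the diagonal -/
  dg : A₂ →+* A₁
  f13_pa : f13.comp pa = f12.comp pa
  f12_pb : f12.comp pb = f23.comp pa
  f13_pb : f13.comp pb = f23.comp pb
  dg_pa : dg.comp pa = RingHom.id A₁
  dg_pb : dg.comp pb = RingHom.id A₁

variable {A₁ A₂ A₃ : Type u} [CommRing A₁] [CommRing A₂] [CommRing A₃] {ι : Type} [Fintype ι] [DecidableEq ι]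

/-- A descent datum on the image of an idempotent matrix. -/
structure Dat (N : Nerve A₁ A₂ A₃) (e : Matrix ι ι A₁) (A B : Matrix ι ι A₂) : Prop where
  idem : e * e = e
  AB : A * B = e.map N.pb
  BA : B * A = e.map N.pa
  pbA : e.map N.pb * A = A
  Apa : A * e.map N.pa = A
  paB : e.map N.pa * B = B
  Bpb : B * e.map N.pb = B
  cocA : A.map N.f23 * A.map N.f12 = A.map N.f13
  cocB : B.map N.f12 * B.map N.f23 = B.map N.f13
  dgA : A.map N.dg = e
  dgB : B.map N.dg = e

namespace Dat

variable {N : Nerve A₁ A₂ A₃} {e : Matrix ι ι A₁} {A B : Matrix ι ι A₂}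

/-- The dual datum. -/
theorem dual (D : Dat N e A B) : Dat N eᵀ Bᵀ Aᵀ where
  idem := by rw [← Matrix.transpose_mul, D.idem]
  AB := by rw [← Matrix.transpose_mul, D.AB]; rfl
  BA := by rw [← Matrix.transpose_mul, D.BA]; rfl
  pbA := by rw [Matrix.transpose_map, ← Matrix.transpose_mul, D.Bpb]
  Apa := by rw [Matrix.transpose_map, ← Matrix.transpose_mul, D.paB]
  paB := by rw [Matrix.transpose_map, ← Matrix.transpose_mul, D.Apa]
  Bpb := by rw [Matrix.transpose_map, ← Matrix.transpose_mul, D.pbA]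
  cocA := by rw [Matrix.transpose_map, Matrix.transpose_map, ← Matrix.transpose_mul, D.cocB]; rfl
  cocB := by rw [Matrix.transpose_map, Matrix.transpose_map, ← Matrix.transpose_mul, D.cocA]; rfl
  dgA := by rw [Matrix.transpose_map, D.dgB]
  dgB := by rw [Matrix.transpose_map, D.dgA]

/-- The image of a datum under a map of nerves. -/
theorem map {C₁ C₂ C₃ : Type u} [CommRing C₁] [CommRing C₂] [CommRing C₃] {M : Nerve C₁ C₂ C₃}
    (D : Dat N e A B) (φ₁ : A₁ →+* C₁) (φ₂ : A₂ →+* C₂) (φ₃ : A₃ →+* C₃)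
    (ha : φ₂.comp N.pa = M.pa.comp φ₁) (hb : φ₂.comp N.pb = M.pb.comp φ₁)
    (h12 : φ₃.comp N.f12 = M.f12.comp φ₂) (h13 : φ₃.comp N.f13 = M.f13.comp φ₂)
    (h23 : φ₃.comp N.f23 = M.f23.comp φ₂) (hd : φ₁.comp N.dg = M.dg.comp φ₂) :
    Dat M (e.map φ₁) (A.map φ₂) (B.map φ₂) := by
  have ea : (e.map φ₁).map M.pa = (e.map N.pa).map φ₂ := by
    rw [Matrix.map_map, Matrix.map_map]; exact congrArg e.map (congrArg DFunLike.coe ha).symm
  have eb : (e.map φ₁).map M.pb = (e.map N.pb).map φ₂ := by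
    rw [Matrix.map_map, Matrix.map_map]; exact congrArg e.map (congrArg DFunLike.coe hb).symm
  have e12 : ∀ X : Matrix ι ι A₂, (X.map φ₂).map M.f12 = (X.map N.f12).map φ₃ := fun X => by
    rw [Matrix.map_map, Matrix.map_map]; exact congrArg X.map (congrArg DFunLike.coe h12).symm
  have e13 : ∀ X : Matrix ι ι A₂, (X.map φ₂).map M.f13 = (X.map N.f13).map φ₃ := fun X => by
    rw [Matrix.map_map, Matrix.map_map]; exact congrArg X.map (congrArg DFunLike.coe h13).symm
  have e23 : ∀ X : Matrix ι ι A₂, (X.map φ₂).map M.f23 = (X.map N.f23).map φ₃ := fun X => by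
    rw [Matrix.map_map, Matrix.map_map]; exact congrArg X.map (congrArg DFunLike.coe h23).symm
  have ed : ∀ X : Matrix ι ι A₂, (X.map φ₂).map M.dg = (X.map N.dg).map φ₁ := fun X => by
    rw [Matrix.map_map, Matrix.map_map]; exact congrArg X.map (congrArg DFunLike.coe hd).symm
  constructor
  · rw [← Matrix.map_mul, D.idem]
  · rw [eb, ← Matrix.map_mul, D.AB]
  · rw [ea, ← Matrix.map_mul, D.BA]
  · rw [eb, ← Matrix.map_mul, D.pbA]
  · rw [ea, ← Matrix.map_mul, D.Apa]
  · rw [ea, ← Matrix.map_mul, D.paB]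
  · rw [eb, ← Matrix.map_mul, D.Bpb]
  · rw [e23, e12, e13, ← Matrix.map_mul, D.cocA]
  · rw [e23, e12, e13, ← Matrix.map_mul, D.cocB]
  · rw [ed, D.dgA]
  · rw [ed, D.dgB]

end Dat

section Ring

variable (R S : Type u) [CommRing R] [CommRing S] [Algebra R S]

/-- The nerve of a ring map. -/
def nerve : Nerve S (S ⊗[R] S) (S ⊗[R] (S ⊗[R] S)) where
  pa := (Algebra.TensorProduct.includeLeft : S →ₐ[R] S ⊗[R] S).toRingHom
  pb := (Algebra.TensorProduct.includeRight : S →ₐ[R] S ⊗[R] S).toRingHom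
  f12 := (Algebra.TensorProduct.map (AlgHom.id R S)
    (Algebra.TensorProduct.includeLeft : S →ₐ[R] S ⊗[R] S)).toRingHom
  f13 := (Algebra.TensorProduct.map (AlgHom.id R S)
    (Algebra.TensorProduct.includeRight : S →ₐ[R] S ⊗[R] S)).toRingHom
  f23 := (Algebra.TensorProduct.includeRight : S ⊗[R] S →ₐ[R] S ⊗[R] (S ⊗[R] S)).toRingHom
  dg := (Algebra.TensorProduct.lmul' R (S := S)).toRingHom
  f13_pa := RingHom.ext fun t => by simp [Algebra.TensorProduct.one_def]
  f12_pb := RingHom.ext fun t => by simp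
  f13_pb := RingHom.ext fun t => by simp
  dg_pa := RingHom.ext fun t => by simp
  dg_pb := RingHom.ext fun t => by simp

variable {R S} [Module.FaithfullyFlat R S] {e : Matrix ι ι S} {A B : Matrix ι ι (S ⊗[R] S)}

theorem exists_fixed_matrix (D : Dat (nerve R S) e A B) :
    ∃ (r : ℕ) (V : Matrix ι (Fin r) S) (X : Matrix (Fin r) ι S),
      e * V = V ∧ A * V.map (nerve R S).pa = V.map (nerve R S).pb ∧ V * X = e := by
  classical
  let K : Submodule R (ι → S) :=
    { carrier := {v | e *ᵥ v = v ∧ A *ᵥ ((nerve R S).pa ∘ v) = (nerve R S).pb ∘ v}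
      add_mem' := fun {v w} hv hw => by
        refine ⟨by rw [Matrix.mulVec_add, hv.1, hw.1], ?_⟩
        have h1 : (nerve R S).pa ∘ (v + w) = (nerve R S).pa ∘ v + (nerve R S).pa ∘ w :=
          funext fun j => map_add _ _ _
        have h2 : (nerve R S).pb ∘ (v + w) = (nerve R S).pb ∘ v + (nerve R S).pb ∘ w :=
          funext fun j => map_add _ _ _
        rw [h1, h2, Matrix.mulVec_add, hv.2, hw.2]
      zero_mem' := by
        refine ⟨Matrix.mulVec_zero _, ?_⟩
        have h1 : (nerve R S).pa ∘ (0 : ι → S) = 0 := funext fun j => map_zero _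
        have h2 : (nerve R S).pb ∘ (0 : ι → S) = 0 := funext fun j => map_zero _
        rw [h1, h2, Matrix.mulVec_zero]
      smul_mem' := fun c v hv => by
        refine ⟨by rw [Matrix.mulVec_smul, hv.1], ?_⟩
        have h1 : (nerve R S).pa ∘ (c • v) = c • ((nerve R S).pa ∘ v) := funext fun j =>
          map_smul (Algebra.TensorProduct.includeLeft : S →ₐ[R] S ⊗[R] S) c (v j)
        have h2 : (nerve R S).pb ∘ (c • v) = c • ((nerve R S).pb ∘ v) := funext fun j =>
          map_smul (Algebra.TensorProduct.includeRight : S →ₐ[R] S ⊗[R] S) c (v j)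
        rw [h1, h2, Matrix.mulVec_smul, hv.2] }
  let δ : (ι → S) →ₗ[R] (ι → S) × (ι → S ⊗[R] S) :=
    { toFun := fun v => (e *ᵥ v - v, A *ᵥ ((nerve R S).pa ∘ v) - (nerve R S).pb ∘ v)
      map_add' := fun v w => by
        have h1 : (nerve R S).pa ∘ (v + w) = (nerve R S).pa ∘ v + (nerve R S).pa ∘ w :=
          funext fun j => map_add _ _ _
        have h2 : (nerve R S).pb ∘ (v + w) = (nerve R S).pb ∘ v + (nerve R S).pb ∘ w :=
          funext fun j => map_add _ _ _
        rw [h1, h2, Matrix.mulVec_add, Matrix.mulVec_add, Prod.mk_add_mk, add_sub_add_comm, add_sub_add_comm]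
      map_smul' := fun c v => by
        have h1 : (nerve R S).pa ∘ (c • v) = c • ((nerve R S).pa ∘ v) := funext fun j =>
          map_smul (Algebra.TensorProduct.includeLeft : S →ₐ[R] S ⊗[R] S) c (v j)
        have h2 : (nerve R S).pb ∘ (c • v) = c • ((nerve R S).pb ∘ v) := funext fun j =>
          map_smul (Algebra.TensorProduct.includeRight : S →ₐ[R] S ⊗[R] S) c (v j)
        rw [h1, h2, Matrix.mulVec_smul, Matrix.mulVec_smul, RingHom.id_apply, Prod.smul_mk, smul_sub, smul_sub] }
  have hex : Function.Exact K.subtype δ := fun v => by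
    constructor
    · intro h
      exact ⟨⟨v, sub_eq_zero.mp (congrArg Prod.fst h), sub_eq_zero.mp (congrArg Prod.snd h)⟩, rfl⟩
    · rintro ⟨w, rfl⟩
      exact Prod.ext (sub_eq_zero.mpr w.2.1) (sub_eq_zero.mpr w.2.2)
  have hexS := Module.Flat.lTensor_exact S hex
  -- `S ⊗ (ι → S)` as vectors over `S ⊗ S`
  let π : S ⊗[R] (ι → S) ≃ₗ[R] (ι → S ⊗[R] S) := TensorProduct.piRight R R S (fun _ => S)
  let π' : S ⊗[R] (ι → S ⊗[R] S) ≃ₗ[R] (ι → S ⊗[R] (S ⊗[R] S)) :=
    TensorProduct.piRight R R S (fun _ => S ⊗[R] S)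
  have hπ : ∀ (x : S) (v : ι → S) (l : ι), π (x ⊗ₜ[R] v) l = x ⊗ₜ[R] v l := fun x v l => by
    simp [π]
  have hδ : ∀ z : S ⊗[R] (ι → S), ∀ l : ι,
      (π ((LinearMap.fst R (ι → S) (ι → S ⊗[R] S) ∘ₗ δ).lTensor S z)) l =
        (e.map (nerve R S).pb *ᵥ π z - π z) l ∧
      (π' ((LinearMap.snd R (ι → S) (ι → S ⊗[R] S) ∘ₗ δ).lTensor S z)) l =
        (A.map (nerve R S).f23 *ᵥ ((nerve R S).f12 ∘ π z) - (nerve R S).f13 ∘ π z) l := by
    intro z l
    induction z using TensorProduct.induction_on with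
    | zero => simp [Matrix.mulVec, dotProduct]
    | tmul x v =>
      refine ⟨?_, ?_⟩
      · simp [δ, π, Matrix.mulVec, dotProduct, nerve, Algebra.TensorProduct.tmul_mul_tmul,
          TensorProduct.tmul_sub, TensorProduct.tmul_sum]
      · simp [δ, π, π', Matrix.mulVec, dotProduct, nerve, Algebra.TensorProduct.tmul_mul_tmul,
          TensorProduct.tmul_sub, TensorProduct.tmul_sum, mul_comm]
    | add y w hy hw =>
      simp only [map_add, Pi.add_apply, hy.1, hy.2, hw.1, hw.2, Pi.sub_apply]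
      have h1 : ∀ f : S ⊗[R] S →+* S ⊗[R] (S ⊗[R] S), f ∘ (π y + π w) = f ∘ π y + f ∘ π w :=
        fun f => funext fun j => map_add f _ _
      rw [h1, h1, Matrix.mulVec_add, Matrix.mulVec_add, Pi.add_apply, Pi.add_apply, Pi.add_apply]
      exact ⟨by abel, by abel⟩
  have hcol : ∀ j : ι, π.symm (fun l => A l j) ∈ LinearMap.range (K.subtype.lTensor S) := by
    intro j
    refine (hexS _).mp ?_
    let P := TensorProduct.prodRight R R S (ι → S) (ι → S ⊗[R] S)
    refine P.injective ?_
    rw [map_zero]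
    have key : ∀ z, P (δ.lTensor S z) =
        ((LinearMap.fst R (ι → S) (ι → S ⊗[R] S) ∘ₗ δ).lTensor S z,
          (LinearMap.snd R (ι → S) (ι → S ⊗[R] S) ∘ₗ δ).lTensor S z) := by
      intro z
      induction z using TensorProduct.induction_on with
      | zero => rw [map_zero, map_zero, map_zero, map_zero]; rfl
      | tmul x v => simp [P]
      | add y w hy hw => rw [map_add, map_add, hy, hw, map_add, map_add]; rfl
    rw [key]
    refine Prod.ext ?_ ?_
    · refine π.injective (funext fun l => ?_)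
      rw [(hδ _ l).1, LinearEquiv.apply_symm_apply, Pi.sub_apply]
      show (e.map (nerve R S).pb * A) l j - A l j = _
      rw [D.pbA, sub_self, Prod.fst_zero, map_zero]
      rfl
    · refine π'.injective (funext fun l => ?_)
      rw [(hδ _ l).2, LinearEquiv.apply_symm_apply, Pi.sub_apply]
      show (A.map (nerve R S).f23 * A.map (nerve R S).f12) l j - A.map (nerve R S).f13 l j = _
      rw [D.cocA, sub_self, Prod.snd_zero, map_zero]
      rfl
  have hfin : ∀ z : S ⊗[R] K, ∃ s : List (S × K), z = (s.map fun q => q.1 ⊗ₜ[R] q.2).sum := by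
    intro z
    induction z using TensorProduct.induction_on with
    | zero => exact ⟨[], rfl⟩
    | tmul x v => exact ⟨[(x, v)], by simp⟩
    | add y w hy hw =>
      obtain ⟨s, rfl⟩ := hy
      obtain ⟨t, rfl⟩ := hw
      exact ⟨s ++ t, by simp⟩
  choose z hz using hcol
  choose s hs using fun j => hfin (z j)
  let L := Σ j : ι, Fin (s j).length
  let ε : Fin (Fintype.card L) ≃ L := (Fintype.equivFin L).symm
  refine ⟨Fintype.card L, Matrix.of fun l t => ((s (ε t).1).get (ε t).2).2.1 l,
    Matrix.of fun t j => if (ε t).1 = j then ((s (ε t).1).get (ε t).2).1 else 0, ?_, ?_, ?_⟩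
  · ext l t
    exact congrFun ((s (ε t).1).get (ε t).2).2.2.1 l
  · ext l t
    exact congrFun ((s (ε t).1).get (ε t).2).2.2.2 l
  · ext l j
    have h : A l j = π (K.subtype.lTensor S (z j)) l := by rw [hz, LinearEquiv.apply_symm_apply]
    have h' : A l j = ∑ t : Fin (s j).length, ((s j).get t).1 ⊗ₜ[R] ((s j).get t).2.1 l := by
      rw [h, hs, map_list_sum, map_list_sum, List.map_map, List.map_map]
      conv_lhs => rw [← List.ofFn_get (s j), List.map_ofFn, List.sum_ofFn, Finset.sum_apply]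
      exact Finset.sum_congr rfl fun t _ => by simp [hπ]
    have hd : e l j = ∑ t : Fin (s j).length, ((s j).get t).1 * ((s j).get t).2.1 l := by
      conv_lhs => rw [← D.dgA, Matrix.map_apply, h', map_sum]
      exact Finset.sum_congr rfl fun t _ => Algebra.TensorProduct.lmul'_apply_tmul _ _
    rw [hd, Matrix.mul_apply, ← ε.symm.sum_comp, Fintype.sum_sigma, Finset.sum_eq_single j]
    · refine Finset.sum_congr rfl fun t _ => ?_
      simp only [Matrix.of_apply]
      generalize hq : ε (ε.symm ⟨j, t⟩) = q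
      rw [Equiv.apply_symm_apply] at hq
      subst hq
      rw [if_pos rfl]
      exact mul_comm _ _
    · intro b _ hb
      refine Finset.sum_eq_zero fun t _ => ?_
      simp only [Matrix.of_apply, Equiv.apply_symm_apply, if_neg hb, mul_zero]
    · simp

theorem exists_algebraMap_eq_of_map {a b : Type} {G : Matrix a b S}
    (h : G.map (nerve R S).pb = G.map (nerve R S).pa) :
    ∃ G₀ : Matrix a b R, G₀.map (algebraMap R S) = G := by
  choose g hg using fun i j => GmTorsor.exists_algebraMap_eq (A := R) (G i j)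
    (congrFun (congrFun h i) j)
  exact ⟨Matrix.of g, Matrix.ext hg⟩

/-- Descent: the image of the idempotent is generated by fixed vectors, with a fixed coordinate map. -/
theorem exists_split (D : Dat (nerve R S) e A B) :
    ∃ (r : ℕ) (V : Matrix ι (Fin r) S) (U : Matrix (Fin r) ι S),
      e * V = V ∧ U * e = U ∧ A * V.map (nerve R S).pa = V.map (nerve R S).pb ∧
        U.map (nerve R S).pb * A = U.map (nerve R S).pa ∧ V * U = e := by
  classical
  obtain ⟨r, V, X, hV, hAV, hVX⟩ := exists_fixed_matrix D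
  obtain ⟨r', V', X', hV', hBV', hVX'⟩ := exists_fixed_matrix D.dual
  let W := V'ᵀ
  have hWe : W * e = W := by
    show V'ᵀ * e = V'ᵀ
    conv_rhs => rw [← hV', Matrix.transpose_mul, Matrix.transpose_transpose]
  have hWB : W.map (nerve R S).pa * B = W.map (nerve R S).pb := by
    have := congrArg Matrix.transpose hBV'
    rw [Matrix.transpose_mul, Matrix.transpose_transpose, ← Matrix.transpose_map, ← Matrix.transpose_map] at this
    exact this
  have hWA : W.map (nerve R S).pb * A = W.map (nerve R S).pa := by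
    rw [← hWB, Matrix.mul_assoc, D.BA, ← Matrix.map_mul, hWe]
  have hYW : X'ᵀ * W = e := by
    rw [← Matrix.transpose_mul, hVX', Matrix.transpose_transpose]
  -- the linear system over `R`
  let L : Matrix (Fin r) (Fin r') R →ₗ[R] Matrix ι ι S :=
    { toFun := fun C => V * C.map (algebraMap R S) * W
      map_add' := fun C C' => by rw [Matrix.map_add _ (map_add _), Matrix.mul_add, Matrix.add_mul]
      map_smul' := fun c C => by
        rw [RingHom.id_apply, ← Matrix.smul_mul, ← Matrix.mul_smul]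
        congr 2
        ext i j
        simp [Algebra.smul_def] }
  let E : S ⊗[R] Matrix ι ι S →ₗ[R] Matrix ι ι (S ⊗[R] S) := TensorProduct.lift
    (LinearMap.mk₂ R (fun x M => M.map (fun y => x ⊗ₜ[R] y))
      (fun x x' M => by ext i j; simp [TensorProduct.add_tmul])
      (fun c x M => by ext i j; simp [TensorProduct.smul_tmul'])
      (fun x M M' => by ext i j; simp [TensorProduct.tmul_add])
      (fun c x M => by ext i j; simp [TensorProduct.tmul_smul]))
  have hE : Function.Injective E := by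
    let F : Matrix ι ι (S ⊗[R] S) →ₗ[R] S ⊗[R] Matrix ι ι S :=
      ∑ i : ι, ∑ j : ι, (Matrix.singleLinearMap R i j).lTensor S ∘ₗ Matrix.entryLinearMap R (S ⊗[R] S) i j
    refine Function.LeftInverse.injective (g := F) fun z => ?_
    induction z using TensorProduct.induction_on with
    | zero => simp
    | tmul x M =>
      simp only [F, E, TensorProduct.lift.tmul, LinearMap.mk₂_apply, LinearMap.sum_apply,
        LinearMap.comp_apply, Matrix.entryLinearMap_apply, Matrix.map_apply, LinearMap.lTensor_tmul,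
        ← TensorProduct.tmul_sum]
      exact congrArg (x ⊗ₜ[R] ·) (Matrix.matrix_eq_sum_single M).symm
    | add y w hy hw => rw [map_add, map_add, hy, hw]
  obtain ⟨C, hC⟩ : e ∈ LinearMap.range L := by
    refine TorsorLift.mem_range_of_one_tmul (S := S) L e
      ⟨∑ t : Fin r, ∑ u : Fin r', (X * X'ᵀ) t u ⊗ₜ[R] Matrix.single t u (1 : R), hE ?_⟩
    have h1 : E ((1 : S) ⊗ₜ[R] e) = e.map (nerve R S).pb := rfl
    have h2 : E (LinearMap.lTensor S L (∑ t : Fin r, ∑ u : Fin r', (X * X'ᵀ) t u ⊗ₜ[R] Matrix.single t u (1 : R))) =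
        V.map (nerve R S).pb * (X * X'ᵀ).map (nerve R S).pa * W.map (nerve R S).pb := by
      rw [map_sum, map_sum]
      ext i j
      simp only [map_sum, LinearMap.lTensor_tmul, E, TensorProduct.lift.tmul, LinearMap.mk₂_apply,
        Matrix.sum_apply, Matrix.map_apply]
      rw [Matrix.mul_apply]
      simp only [Matrix.mul_apply (M := V.map (nerve R S).pb), Finset.sum_mul]
      conv_rhs => rw [Finset.sum_comm]
      refine Finset.sum_congr rfl fun t _ => Finset.sum_congr rfl fun u _ => ?_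
      show (X * X'ᵀ) t u ⊗ₜ[R] (V * (Matrix.single t u (1 : R)).map (algebraMap R S) * W) i j = _
      rw [show (Matrix.single t u (1 : R)).map (algebraMap R S) = Matrix.single t u (1 : S) by
        rw [Matrix.map_single, map_one]]
      have hvw : (V * Matrix.single t u (1 : S) * W : Matrix ι ι S) i j = V i t * W u j := by
        rw [Matrix.mul_apply, Finset.sum_eq_single u (fun b _ hb => by
          rw [Matrix.mul_single_apply_of_ne (hbj := hb), zero_mul]) (by simp),
          Matrix.mul_single_apply_same, mul_one]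
      refine (congrArg (fun y => _ ⊗ₜ[R] y) hvw).trans ?_
      simp [nerve, Algebra.TensorProduct.tmul_mul_tmul]
    rw [h1, h2, ← hAV]
    have hWb : W.map (nerve R S).pb = W.map (nerve R S).pa * B := hWB.symm
    rw [hWb, Matrix.mul_assoc A, ← Matrix.mul_assoc (A * _), Matrix.mul_assoc A, Matrix.mul_assoc A,
      ← Matrix.map_mul, ← Matrix.map_mul, ← Matrix.mul_assoc V, hVX,
      Matrix.mul_assoc e, hYW, D.idem, D.paB, D.AB]
  refine ⟨r, V, C.map (algebraMap R S) * W, hV, ?_, hAV, ?_, ?_⟩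
  · rw [Matrix.mul_assoc, hWe]
  · have hCab : (C.map (algebraMap R S)).map (nerve R S).pb = (C.map (algebraMap R S)).map (nerve R S).pa := by
      ext i j
      show (1 : S) ⊗ₜ[R] algebraMap R S (C i j) = algebraMap R S (C i j) ⊗ₜ[R] (1 : S)
      rw [Algebra.algebraMap_eq_smul_one, TensorProduct.smul_tmul]
    rw [Matrix.map_mul, Matrix.map_mul, Matrix.mul_assoc, hWA, hCab]
  · rw [← Matrix.mul_assoc]
    exact hC

/-- Exactness of the complex of a datum in degree one. -/
theorem exists_coboundary (D : Dat (nerve R S) e A B) (x : ι → S ⊗[R] S)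
    (hx : e.map (nerve R S).pb *ᵥ x = x)
    (hc : A.map (nerve R S).f23 *ᵥ ((nerve R S).f12 ∘ x) + (nerve R S).f23 ∘ x = (nerve R S).f13 ∘ x) :
    ∃ y : ι → S, e *ᵥ y = y ∧ A *ᵥ ((nerve R S).pa ∘ y) - (nerve R S).pb ∘ y = x := by
  obtain ⟨r, V, U, hV, hU, hAV, hUA, hVU⟩ := exists_split D
  set N := nerve R S
  let z : Fin r → S ⊗[R] S := U.map N.pb *ᵥ x
  have hmv : ∀ {a b : Type} [Fintype b] (f : S ⊗[R] S →+* S ⊗[R] (S ⊗[R] S)) (M : Matrix a b (S ⊗[R] S))
      (v : b → S ⊗[R] S), f ∘ (M *ᵥ v) = M.map f *ᵥ (f ∘ v) :=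
    fun f M v => funext fun i => RingHom.map_mulVec f M v i
  have hz : N.f12 ∘ z + N.f23 ∘ z = N.f13 ∘ z := by
    have h23 : (U.map N.pb).map N.f23 * A.map N.f23 = (U.map N.pb).map N.f12 := by
      rw [← Matrix.map_mul, hUA, Matrix.map_map, Matrix.map_map]
      exact congrArg U.map (congrArg DFunLike.coe N.f12_pb).symm
    have h13 : (U.map N.pb).map N.f13 = (U.map N.pb).map N.f23 := by
      rw [Matrix.map_map, Matrix.map_map]
      exact congrArg U.map (congrArg DFunLike.coe N.f13_pb)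
    show N.f12 ∘ (U.map N.pb *ᵥ x) + N.f23 ∘ (U.map N.pb *ᵥ x) = N.f13 ∘ (U.map N.pb *ᵥ x)
    rw [hmv, hmv, hmv, h13, ← h23, ← Matrix.mulVec_mulVec, ← Matrix.mulVec_add, hc]
  choose w hw using fun t => TorsorLift.exists_d1_eq (z t) (congrFun hz t).symm
  have hw' : z = N.pb ∘ w - N.pa ∘ w := funext fun t => ((hw t).symm.trans (TorsorLift.d1_apply (w t)))
  refine ⟨-(V *ᵥ w), by rw [Matrix.mulVec_neg, Matrix.mulVec_mulVec, hV], ?_⟩
  have hneg : ∀ (f : S →+* S ⊗[R] S) (v : ι → S), f ∘ (-v) = -(f ∘ v) := fun f v => funext fun i => map_neg f _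
  have hmv1 : ∀ (f : S →+* S ⊗[R] S), f ∘ (V *ᵥ w) = V.map f *ᵥ (f ∘ w) :=
    fun f => funext fun i => RingHom.map_mulVec f V w i
  rw [hneg, hneg, Matrix.mulVec_neg, hmv1, hmv1, Matrix.mulVec_mulVec, hAV, neg_sub_neg, ← Matrix.mulVec_sub,
    ← hw', Matrix.mulVec_mulVec, ← Matrix.map_mul, hVU, hx]

end Ring

end Groth.Agent.WittDesc
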