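import Groth.Agent.WittDesc.Witt
import Groth.Agent.WittDesc.Dat

/-! Descent of projective modules over truncated Witt vectors, matrix form. -/

set_option autoImplicit false
set_option linter.style.haveILetI false
universe u

open Matrix TensorProduct

noncomputable section

namespace Groth.Agent.WittDesc

variable (p : ℕ) [hp : Fact p.Prime] (n : ℕ) (R S : Type u) [CommRing R] [CommRing S] [Algebra R S]

/-- The nerve of Witt rings of a ring map. -/
def wnerve : Nerve (TruncatedWittVector p n S) (TruncatedWittVector p n (S ⊗[R] S))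
    (TruncatedWittVector p n (S ⊗[R] (S ⊗[R] S))) where
  pa := WittGrp.truncMap p n (nerve R S).pa
  pb := WittGrp.truncMap p n (nerve R S).pb
  f12 := WittGrp.truncMap p n (nerve R S).f12
  f13 := WittGrp.truncMap p n (nerve R S).f13
  f23 := WittGrp.truncMap p n (nerve R S).f23
  dg := WittGrp.truncMap p n (nerve R S).dg
  f13_pa := by rw [← WittGrp.truncMap_comp, ← WittGrp.truncMap_comp, (nerve R S).f13_pa]
  f12_pb := by rw [← WittGrp.truncMap_comp, ← WittGrp.truncMap_comp, (nerve R S).f12_pb]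
  f13_pb := by rw [← WittGrp.truncMap_comp, ← WittGrp.truncMap_comp, (nerve R S).f13_pb]
  dg_pa := by rw [← WittGrp.truncMap_comp, (nerve R S).dg_pa, WittGrp.truncMap_id]
  dg_pb := by rw [← WittGrp.truncMap_comp, (nerve R S).dg_pb, WittGrp.truncMap_id]

variable {p n R S} {ι : Type} [Fintype ι] [DecidableEq ι]
  {e : Matrix ι ι (TruncatedWittVector p n S)}
  {A B : Matrix ι ι (TruncatedWittVector p n (S ⊗[R] S))}

theorem Dat.gam (D : Dat (wnerve p n R S) e A B) (i : Fin n) :
    Dat (nerve R S) (e.map (gam p n i)) (A.map (gam p n i)) (B.map (gam p n i)) :=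
  D.map (WittDesc.gam p n i) (WittDesc.gam p n i) (WittDesc.gam p n i)
    (RingHom.ext fun _ => gam_truncMap p n _ i _) (RingHom.ext fun _ => gam_truncMap p n _ i _)
    (RingHom.ext fun _ => gam_truncMap p n _ i _) (RingHom.ext fun _ => gam_truncMap p n _ i _)
    (RingHom.ext fun _ => gam_truncMap p n _ i _) (RingHom.ext fun _ => gam_truncMap p n _ i _)

theorem map_gam_truncMap {T T' : Type u} [CommRing T] [CommRing T'] {a b : Type} (g : T →+* T') (i : Fin n)
    (M : Matrix a b (TruncatedWittVector p n T)) :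
    (M.map (WittGrp.truncMap p n g)).map (WittDesc.gam p n i) = (M.map (WittDesc.gam p n i)).map g :=
  Matrix.ext fun _ _ => gam_truncMap p n g i _

theorem coeff_mulVec_of_mem {T : Type u} [CommRing T] {a : Type} (i : Fin n)
    (M : Matrix a ι (TruncatedWittVector p n T)) {v : ι → TruncatedWittVector p n T}
    (hv : ∀ l, v l ∈ fil p n (i : ℕ)) (q : a) :
    TruncatedWittVector.coeff i ((M *ᵥ v) q) =
      (M.map (WittDesc.gam p n i) *ᵥ fun l => TruncatedWittVector.coeff i (v l)) q := by
  simp only [Matrix.mulVec, dotProduct]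
  rw [coeff_sum_of_mem p n i _ _ fun l _ => Ideal.mul_mem_left _ _ (hv l)]
  exact Finset.sum_congr rfl fun l _ => coeff_mul_of_mem p n i _ (hv l)

theorem mulVec_mem {T : Type u} [CommRing T] {a : Type} {i : ℕ}
    (M : Matrix a ι (TruncatedWittVector p n T)) {v : ι → TruncatedWittVector p n T}
    (hv : ∀ l, v l ∈ fil p n i) (q : a) : (M *ᵥ v) q ∈ fil p n i :=
  Ideal.sum_mem _ fun l _ => Ideal.mul_mem_left _ _ (hv l)

/-- The difference of the two faces. -/
def diff (A : Matrix ι ι (TruncatedWittVector p n (S ⊗[R] S))) (v : ι → TruncatedWittVector p n S) :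
    ι → TruncatedWittVector p n (S ⊗[R] S) :=
  A *ᵥ ((wnerve p n R S).pa ∘ v) - (wnerve p n R S).pb ∘ v

theorem diff_sub (v w : ι → TruncatedWittVector p n S) : diff A (v - w) = diff A v - diff A w := by
  have h : ∀ f : TruncatedWittVector p n S →+* TruncatedWittVector p n (S ⊗[R] S), f ∘ (v - w) = f ∘ v - f ∘ w :=
    fun f => funext fun l => map_sub f _ _
  rw [diff, diff, diff, h, h, Matrix.mulVec_sub]
  abel

theorem pbe_diff (D : Dat (wnerve p n R S) e A B) {v : ι → TruncatedWittVector p n S} (hv : e *ᵥ v = v) :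
    e.map (wnerve p n R S).pb *ᵥ diff A v = diff A v := by
  have h : (wnerve p n R S).pb ∘ v = e.map (wnerve p n R S).pb *ᵥ ((wnerve p n R S).pb ∘ v) := by
    conv_lhs => rw [← hv]
    exact funext fun l => RingHom.map_mulVec _ e v l
  rw [diff, Matrix.mulVec_sub, Matrix.mulVec_mulVec, D.pbA, ← h]

theorem cocycle_diff (D : Dat (wnerve p n R S) e A B) (v : ι → TruncatedWittVector p n S) :
    A.map (wnerve p n R S).f23 *ᵥ ((wnerve p n R S).f12 ∘ diff A v) + (wnerve p n R S).f23 ∘ diff A v =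
      (wnerve p n R S).f13 ∘ diff A v := by
  set N := wnerve p n R S
  have h : ∀ (f : TruncatedWittVector p n (S ⊗[R] S) →+* TruncatedWittVector p n (S ⊗[R] (S ⊗[R] S))),
      f ∘ diff A v = A.map f *ᵥ ((f.comp N.pa) ∘ v) - (f.comp N.pb) ∘ v := fun f => funext fun l => by
    simp only [Function.comp_apply, diff, Pi.sub_apply, map_sub, RingHom.comp_apply]
    rw [RingHom.map_mulVec]
    rfl
  rw [h, h, h, Matrix.mulVec_sub, Matrix.mulVec_mulVec, D.cocA, N.f12_pb, N.f13_pa, N.f13_pb]
  abel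

variable [Module.FaithfullyFlat R S]

theorem exists_lift (D : Dat (wnerve p n R S) e A B) (hn : 0 < n) (v₀ : ι → S)
    (he : e.map (WittDesc.gam p n ⟨0, hn⟩) *ᵥ v₀ = v₀)
    (hA : A.map (WittDesc.gam p n ⟨0, hn⟩) *ᵥ ((nerve R S).pa ∘ v₀) = (nerve R S).pb ∘ v₀) :
    ∃ v : ι → TruncatedWittVector p n S, e *ᵥ v = v ∧ (∀ l, WittDesc.gam p n ⟨0, hn⟩ (v l) = v₀ l) ∧
      A *ᵥ ((wnerve p n R S).pa ∘ v) = (wnerve p n R S).pb ∘ v := by
  set i₀ : Fin n := ⟨0, hn⟩
  suffices h : ∀ k : ℕ, ∃ v : ι → TruncatedWittVector p n S, e *ᵥ v = v ∧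
      (∀ l, WittDesc.gam p n i₀ (v l) = v₀ l) ∧ ∀ l, diff A v l ∈ fil p n (k + 1) by
    obtain ⟨v, h1, h2, h3⟩ := h n
    exact ⟨v, h1, h2, sub_eq_zero.mp (funext fun l => eq_zero_of_mem_fil p n (Nat.le_succ n) (h3 l))⟩
  intro k
  induction k with
  | zero =>
    let w : ι → TruncatedWittVector p n S := fun l => tau p n i₀ (v₀ l)
    have hw : ∀ l, WittDesc.gam p n i₀ ((e *ᵥ w) l) = v₀ l := fun l => by
      rw [RingHom.map_mulVec]
      have : WittDesc.gam p n i₀ ∘ w = v₀ := funext fun l => by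
        show WittDesc.gam p n i₀ (tau p n i₀ (v₀ l)) = _
        rw [gam_zero, coeff_tau]
      rw [this, he]
    refine ⟨e *ᵥ w, by rw [Matrix.mulVec_mulVec, D.idem], hw, fun l => ?_⟩
    refine mem_fil_succ p n (i := i₀) (mem_fil_zero p n _) ?_
    rw [← gam_zero p n hn, diff, Pi.sub_apply, map_sub, RingHom.map_mulVec, sub_eq_zero]
    have h : ∀ f : S →+* S ⊗[R] S, WittDesc.gam p n i₀ ∘ (WittGrp.truncMap p n f ∘ (e *ᵥ w)) = f ∘ v₀ :=
      fun f => funext fun j => by
        show WittDesc.gam p n i₀ (WittGrp.truncMap p n f ((e *ᵥ w) j)) = f (v₀ j)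
        rw [gam_truncMap, hw]
    exact ((congrArg (fun z => (A.map (WittDesc.gam p n i₀) *ᵥ z) l) (h (nerve R S).pa)).trans
      (congrFun hA l)).trans (congrFun (h (nerve R S).pb) l).symm
  | succ k ih =>
    obtain ⟨v, h1, h2, h3⟩ := ih
    by_cases hk : k + 1 < n
    swap
    · exact ⟨v, h1, h2, fun l j hj => h3 l j (j.2.trans_le (Nat.le_of_not_lt hk))⟩
    let i : Fin n := ⟨k + 1, hk⟩
    let x : ι → S ⊗[R] S := fun l => TruncatedWittVector.coeff i (diff A v l)
    have hx1 : (e.map (WittDesc.gam p n i)).map (nerve R S).pb *ᵥ x = x := by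
      have h := coeff_mulVec_of_mem (T := S ⊗[R] S) i (e.map (wnerve p n R S).pb) h3
      refine funext fun q => ?_
      have e1 : (e.map (wnerve p n R S).pb).map (WittDesc.gam p n i) = (e.map (WittDesc.gam p n i)).map (nerve R S).pb :=
        map_gam_truncMap (nerve R S).pb i e
      rw [← e1, ← h q, pbe_diff D h1]
    have hx2 : (A.map (WittDesc.gam p n i)).map (nerve R S).f23 *ᵥ ((nerve R S).f12 ∘ x) + (nerve R S).f23 ∘ x =
        (nerve R S).f13 ∘ x := by
      refine funext fun q => ?_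
      have h := congrArg (TruncatedWittVector.coeff i) (congrFun (cocycle_diff D v) q)
      rw [Pi.add_apply] at h
      have hm : ∀ (f : S ⊗[R] S →+* S ⊗[R] (S ⊗[R] S)) (l : ι),
          (WittGrp.truncMap p n f ∘ diff A v) l ∈ fil p n (i : ℕ) := fun f l => truncMap_mem p n f (h3 l)
      have h12 : ∀ l, ((wnerve p n R S).f12 ∘ diff A v) l ∈ fil p n (i : ℕ) := hm (nerve R S).f12
      have h23 : ((wnerve p n R S).f23 ∘ diff A v) q ∈ fil p n (i : ℕ) := hm (nerve R S).f23 q
      rw [coeff_add_of_mem p n i (mulVec_mem _ h12 q) h23, coeff_mulVec_of_mem i _ h12 q] at h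
      have e1 : (A.map (wnerve p n R S).f23).map (WittDesc.gam p n i) = (A.map (WittDesc.gam p n i)).map (nerve R S).f23 :=
        map_gam_truncMap (nerve R S).f23 i A
      rw [e1] at h
      simp only [Function.comp_apply, wnerve, WittGrp.coeff_truncMap] at h
      exact h
    obtain ⟨y, hy1, hy2⟩ := exists_coboundary (D.gam i) x hx1 hx2
    let w : ι → TruncatedWittVector p n S := e *ᵥ fun l => tau p n i (y l)
    have hwm : ∀ l, w l ∈ fil p n (i : ℕ) := fun l => mulVec_mem e (fun j => tau_mem p n i (y j)) l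
    have hwc : ∀ l, TruncatedWittVector.coeff i (w l) = y l := fun l => by
      rw [coeff_mulVec_of_mem i e (fun j => tau_mem p n i (y j)) l]
      simp only [coeff_tau]
      exact congrFun hy1 l
    refine ⟨v - w, by rw [Matrix.mulVec_sub, h1]; show v - e *ᵥ (e *ᵥ _) = _; rw [Matrix.mulVec_mulVec, D.idem],
      fun l => ?_, fun l => ?_⟩
    · have hw0 : TruncatedWittVector.coeff i₀ (w l) = 0 := hwm l i₀ (Nat.succ_pos k)
      rw [Pi.sub_apply, map_sub, h2, gam_zero, hw0, sub_zero]
    · have hd : diff A w l ∈ fil p n (i : ℕ) := Ideal.sub_mem _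
        (mulVec_mem A (fun j => truncMap_mem p n _ (hwm j)) l) (truncMap_mem p n _ (hwm l))
      rw [diff_sub, Pi.sub_apply]
      refine mem_fil_succ p n (i := i) (Ideal.sub_mem _ (h3 l) hd) ?_
      rw [coeff_sub_of_mem p n i (h3 l) hd, sub_eq_zero]
      have hc : ∀ (f : S →+* S ⊗[R] S) (j : ι),
          TruncatedWittVector.coeff i ((WittGrp.truncMap p n f ∘ w) j) = f (y j) := fun f j => by
        rw [Function.comp_apply, WittGrp.coeff_truncMap, hwc]
      have hda : ∀ j, ((wnerve p n R S).pa ∘ w) j ∈ fil p n (i : ℕ) := fun j => truncMap_mem p n _ (hwm j)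
      show x l = _
      rw [diff, Pi.sub_apply, coeff_sub_of_mem p n i (mulVec_mem A hda l)
        (show ((wnerve p n R S).pb ∘ w) l ∈ fil p n (i : ℕ) from truncMap_mem p n _ (hwm l)),
        coeff_mulVec_of_mem i A hda l]
      have : (fun j => TruncatedWittVector.coeff i (((wnerve p n R S).pa ∘ w) j)) = (nerve R S).pa ∘ y :=
        funext (hc _)
      rw [this, show TruncatedWittVector.coeff i (((wnerve p n R S).pb ∘ w) l) = (nerve R S).pb (y l) from hc _ l]
      exact (congrFun hy2 l).symm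

theorem exists_truncMap_eq {a b : Type} {G : Matrix a b (TruncatedWittVector p n S)}
    (h : G.map (wnerve p n R S).pb = G.map (wnerve p n R S).pa) :
    ∃ G₀ : Matrix a b (TruncatedWittVector p n R), G₀.map (WittGrp.truncMap p n (algebraMap R S)) = G := by
  have hc : ∀ i j (t : Fin n), ∃ r : R, algebraMap R S r = TruncatedWittVector.coeff t (G i j) := fun i j t => by
    refine GmTorsor.exists_algebraMap_eq (A := R) _ ?_
    have := congrArg (TruncatedWittVector.coeff t) (congrFun (congrFun h i) j)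
    rw [Matrix.map_apply, Matrix.map_apply] at this
    simp only [wnerve, WittGrp.coeff_truncMap] at this
    exact this
  choose r hr using hc
  refine ⟨Matrix.of fun i j => TruncatedWittVector.mk p (r i j), Matrix.ext fun i j => TruncatedWittVector.ext fun t => ?_⟩
  rw [Matrix.map_apply, WittGrp.coeff_truncMap, Matrix.of_apply, TruncatedWittVector.coeff_mk, hr]

theorem isNilpotent_matrix {T : Type u} [CommRing T] {a : Type} [Fintype a] [DecidableEq a]
    {M : Matrix a a T} (h : ∀ i j, IsNilpotent (M i j)) : IsNilpotent M := by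
  let I : Ideal T := Ideal.span (Set.range fun q : a × a => M q.1 q.2)
  have hfg : I.FG := Submodule.fg_span (Set.finite_range _)
  obtain ⟨N, hN⟩ := hfg.isNilpotent_iff_le_nilradical.mpr
    (Ideal.span_le.mpr (by rintro _ ⟨q, rfl⟩; exact mem_nilradical.mpr (h _ _)))
  have hp : ∀ (k : ℕ) i j, (M ^ k) i j ∈ I ^ k := by
    intro k
    induction k with
    | zero => intro i j; rw [pow_zero, pow_zero, Ideal.one_eq_top]; trivial
    | succ k ih =>
      intro i j
      rw [pow_succ, pow_succ, Matrix.mul_apply]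
      exact Ideal.sum_mem _ fun l _ => Ideal.mul_mem_mul (ih i l) (Ideal.subset_span ⟨(l, j), rfl⟩)
  exact ⟨N, Matrix.ext fun i j => by
    have := hp N i j
    rw [hN] at this
    simpa using this⟩

/-- Effectiveness in matrix form. -/
theorem exists_split_witt (D : Dat (wnerve p n R S) e A B) (hpn : IsNilpotent (p : R)) :
    ∃ (r : ℕ) (V : Matrix ι (Fin r) (TruncatedWittVector p n S))
      (U : Matrix (Fin r) ι (TruncatedWittVector p n S)) (f : Matrix (Fin r) (Fin r) (TruncatedWittVector p n R)),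
      e * V = V ∧ U * e = U ∧ A * V.map (wnerve p n R S).pa = V.map (wnerve p n R S).pb ∧
        V * U = e ∧ f * f = f ∧ f.map (WittGrp.truncMap p n (algebraMap R S)) = U * V := by
  classical
  rcases Nat.eq_zero_or_pos n with hn | hn
  · subst hn
    have hs : ∀ {T : Type u} [CommRing T], Subsingleton (TruncatedWittVector p 0 T) := fun {T} _ =>
      ⟨fun x y => TruncatedWittVector.ext fun i => i.elim0⟩
    exact ⟨0, 0, 0, 0, Matrix.ext fun _ j => j.elim0, Matrix.ext fun i => i.elim0,
      Matrix.ext fun _ j => j.elim0, Matrix.ext fun i j => hs.elim _ _, Matrix.ext fun i => i.elim0,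
      Matrix.ext fun i => i.elim0⟩
  set N := wnerve p n R S with hN
  set i₀ : Fin n := ⟨0, hn⟩
  obtain ⟨r, V₀, U₀, hV₀, hU₀, hAV₀, hUA₀, hVU₀⟩ := exists_split (D.gam i₀)
  have hBU₀ : (B.map (gam p n i₀))ᵀ * U₀ᵀ.map (nerve R S).pa = U₀ᵀ.map (nerve R S).pb := by
    rw [Matrix.transpose_map, Matrix.transpose_map, ← Matrix.transpose_mul, ← hUA₀, Matrix.mul_assoc,
      (D.gam i₀).AB, ← Matrix.map_mul, hU₀]
  choose v hv hv0 hvA using fun t : Fin r => exists_lift D hn (fun l => V₀ l t)
    (funext fun l => congrFun (congrFun hV₀ l) t) (funext fun l => congrFun (congrFun hAV₀ l) t)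
  choose u hu hu0 huB using fun t : Fin r => exists_lift D.dual hn (fun l => U₀ t l)
    (funext fun l => congrFun (congrFun ((Matrix.transpose_mul U₀ (e.map (gam p n i₀))).symm.trans
      (congrArg Matrix.transpose hU₀)) l) t)
    (funext fun l => congrFun (congrFun hBU₀ l) t)
  let V : Matrix ι (Fin r) (TruncatedWittVector p n S) := Matrix.of fun l t => v t l
  let U₁ : Matrix (Fin r) ι (TruncatedWittVector p n S) := Matrix.of fun t l => u t l
  have hV : e * V = V := Matrix.ext fun l t => congrFun (hv t) l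
  have hAV : A * V.map N.pa = V.map N.pb := Matrix.ext fun l t => congrFun (hvA t) l
  have hU₁ : U₁ * e = U₁ := by
    apply Matrix.transpose_injective
    rw [Matrix.transpose_mul]
    exact Matrix.ext fun l t => congrFun (hu t) l
  have hU₁B : U₁.map N.pa * B = U₁.map N.pb := by
    apply Matrix.transpose_injective
    rw [Matrix.transpose_mul]
    exact Matrix.ext fun l t => congrFun (huB t) l
  have hU₁A : U₁.map N.pb * A = U₁.map N.pa := by
    rw [← hU₁B, Matrix.mul_assoc, D.BA, ← Matrix.map_mul, hU₁]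
  set δ := V * U₁ - e with hδ
  have heδ : e * δ = δ := by rw [hδ, Matrix.mul_sub, ← Matrix.mul_assoc, hV, D.idem]
  have hδe : δ * e = δ := by rw [hδ, Matrix.sub_mul, Matrix.mul_assoc, hU₁, D.idem]
  have hpS : IsNilpotent (p : S) := by
    rw [← map_natCast (algebraMap R S)]
    exact hpn.map _
  have hnil : IsNilpotent δ := isNilpotent_matrix fun a b => isNilpotent_of_mem_fil_one p n hpS <| by
    refine mem_fil_succ p n (i := i₀) (mem_fil_zero p n _) ?_
    rw [← gam_zero p n hn, hδ, Matrix.sub_apply, map_sub, sub_eq_zero, RingHom.map_matrix_mul]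
    refine Eq.trans ?_ (congrFun (congrFun hVU₀ a) b)
    rw [show V.map (gam p n i₀) = V₀ from Matrix.ext fun l t => hv0 t l,
      show U₁.map (gam p n i₀) = U₀ from Matrix.ext fun t l => hu0 t l]
  obtain ⟨q, hq⟩ := hnil.isUnit_one_add
  let Q : Matrix ι ι (TruncatedWittVector p n S) := ↑q⁻¹
  have hq1 : (1 + δ) * Q = 1 := by rw [← hq]; exact q.mul_inv
  have hq2 : Q * (1 + δ) = 1 := by rw [← hq]; exact q.inv_mul
  have hQe : Q * e = e * Q := by
    calc Q * e = Q * e * ((1 + δ) * Q) := by rw [hq1, Matrix.mul_one]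
      _ = Q * (e * (1 + δ)) * Q := by simp only [Matrix.mul_assoc]
      _ = Q * ((1 + δ) * e) * Q := by rw [Matrix.mul_add, Matrix.add_mul 1 δ e, heδ, hδe, Matrix.mul_one, Matrix.one_mul]
      _ = e * Q := by rw [← Matrix.mul_assoc Q (1 + δ), hq2, Matrix.one_mul]
  let U := U₁ * Q
  have hVU : V * U = e := by
    rw [← Matrix.mul_assoc, show V * U₁ = e * (1 + δ) by rw [Matrix.mul_add, Matrix.mul_one, heδ, hδ]; abel,
      Matrix.mul_assoc, hq1, Matrix.mul_one]
  have hU : U * e = U := by
    show U₁ * Q * e = U₁ * Q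
    rw [Matrix.mul_assoc, hQe, ← Matrix.mul_assoc, hU₁]
  have hAe : e.map N.pb * A = A * e.map N.pa := by rw [D.pbA, D.Apa]
  have hAδ : δ.map N.pb * A = A * δ.map N.pa := by
    rw [hδ, Matrix.map_sub _ (map_sub _), Matrix.map_sub _ (map_sub _), Matrix.sub_mul, Matrix.mul_sub, hAe,
      Matrix.map_mul, Matrix.map_mul, Matrix.mul_assoc, hU₁A, ← Matrix.mul_assoc A, hAV]
  have hAQ : Q.map N.pb * A = A * Q.map N.pa := by
    have h1 : ∀ (X Y : Matrix ι ι (TruncatedWittVector p n S))
        (g : TruncatedWittVector p n S →+* TruncatedWittVector p n (S ⊗[R] S)),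
        X * Y = 1 → X.map g * Y.map g = 1 := fun X Y g h => by
      rw [← Matrix.map_mul, h, Matrix.map_one _ (map_zero _) (map_one _)]
    have h2 : (1 + δ).map N.pb * A = A * (1 + δ).map N.pa := by
      rw [Matrix.map_add _ (map_add _), Matrix.map_add _ (map_add _), Matrix.map_one _ (map_zero _) (map_one _),
        Matrix.map_one _ (map_zero _) (map_one _), Matrix.add_mul, Matrix.mul_add, hAδ, Matrix.one_mul, Matrix.mul_one]
    calc Q.map N.pb * A = Q.map N.pb * A * ((1 + δ).map N.pa * Q.map N.pa) := by rw [h1 _ _ _ hq1, Matrix.mul_one]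
      _ = Q.map N.pb * (A * (1 + δ).map N.pa) * Q.map N.pa := by simp only [Matrix.mul_assoc]
      _ = Q.map N.pb * ((1 + δ).map N.pb * A) * Q.map N.pa := by rw [h2]
      _ = A * Q.map N.pa := by rw [← Matrix.mul_assoc (Q.map N.pb), h1 _ _ _ hq2, Matrix.one_mul]
  have hUA : U.map N.pb * A = U.map N.pa := by
    show (U₁ * Q).map N.pb * A = (U₁ * Q).map N.pa
    rw [Matrix.map_mul, Matrix.map_mul, Matrix.mul_assoc, hAQ, ← Matrix.mul_assoc, hU₁A]
  obtain ⟨f, hf⟩ := exists_truncMap_eq (G := U * V) (R := R)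
    ((Matrix.map_mul (L := U) (M := V) (f := N.pb)).trans (Eq.trans (by rw [← hAV, ← Matrix.mul_assoc, hUA])
      (Matrix.map_mul (L := U) (M := V) (f := N.pa)).symm))
  refine ⟨r, V, U, f, hV, hU, hAV, hVU, ?_, hf⟩
  refine Matrix.map_injective (truncMap_injective p n (FaithfulSMul.algebraMap_injective R S)) ?_
  show (f * f).map _ = f.map _
  rw [Matrix.map_mul, hf, Matrix.mul_assoc, ← Matrix.mul_assoc V, hVU, hV]

end Groth.Agent.WittDesc
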