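import Groth.Prelude.Def_W4c3truncdispsmoothDesc
import Groth.Agent.WittDesc.Main
import Mathlib

/-! Elementwise calculus for descent data of modules over truncated Witt vectors. -/

set_option autoImplicit false
set_option backward.isDefEq.respectTransparency false
set_option backward.isDefEq.respectTransparency.types false
set_option linter.style.haveILetI false

universe u

open CategoryTheory Opposite TensorProduct
open scoped ChangeOfRings

noncomputable section

namespace Groth.Agent.WittDesc.DD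

variable {G : CommRingCat.{u} ⥤ CommRingCat.{u}}

variable (G) in
/-- The pseudofunctor of modules over the values of a functor on rings. -/
@[reducible] def pf : Pseudofunctor (LocallyDiscrete (CommRingCat.{u}ᵒᵖ)ᵒᵖ) Cat.{u, u + 1} :=
  ((unopUnop CommRingCat.{u}) ⋙ G).toPseudofunctor.comp CommRingCat.moduleCatExtendScalarsPseudofunctor.{u}

/-- The ring of an object. -/
abbrev WR (G : CommRingCat.{u} ⥤ CommRingCat.{u}) (A : CommRingCat.{u}ᵒᵖ) : Type u := G.obj A.unop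

/-- The ring map attached to a morphism. -/
abbrev wr {A B : CommRingCat.{u}ᵒᵖ} (f : B ⟶ A) : WR G A →+* WR G B :=
  (G.map f.unop).hom

/-- Extension of scalars. -/
abbrev ext {A B : CommRingCat.{u}ᵒᵖ} (f : B ⟶ A) (M : ModuleCat.{u} (WR G A)) : ModuleCat.{u} (WR G B) :=
  (ModuleCat.extendScalars (wr (G := G) f)).obj M

/-- The element `1 ⊗ m`. -/
def one {A B : CommRingCat.{u}ᵒᵖ} (f : B ⟶ A) (M : ModuleCat.{u} (WR G A)) (m : M) : ext f M :=
  (1 : WR G B) ⊗ₜ[WR G A, wr (G := G) f] m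

theorem one_add {A B : CommRingCat.{u}ᵒᵖ} (f : B ⟶ A) (M : ModuleCat.{u} (WR G A)) (m m' : M) :
    one f M (m + m') = one f M m + one f M m' := TensorProduct.tmul_add _ _ _

theorem one_smul' {A B : CommRingCat.{u}ᵒᵖ} (f : B ⟶ A) (M : ModuleCat.{u} (WR G A)) (x : WR G A) (m : M) :
    one f M (x • m) = wr f x • one f M m := by
  letI := (wr (G := G) f).toAlgebra
  letI : Module (WR G A) (WR G B) := Algebra.toModule
  show (1 : WR G B) ⊗ₜ[WR G A, wr (G := G) f] (x • m) =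
    (wr f x * 1) ⊗ₜ[WR G A, wr (G := G) f] m
  exact (TensorProduct.smul_tmul x (1 : WR G B) m).symm

theorem one_sum {A B : CommRingCat.{u}ᵒᵖ} (f : B ⟶ A) (M : ModuleCat.{u} (WR G A)) {ι : Type*}
    (s : Finset ι) (g : ι → M) : one f M (∑ i ∈ s, g i) = ∑ i ∈ s, one f M (g i) :=
  map_sum (AddMonoidHom.mk' (one f M) (one_add f M)) g s

theorem ext_hom {A B : CommRingCat.{u}ᵒᵖ} (f : B ⟶ A) (M : ModuleCat.{u} (WR G A))
    {Q : ModuleCat.{u} (WR G B)} {φ ψ : ext f M ⟶ Q} (h : ∀ m, φ (one f M m) = ψ (one f M m)) : φ = ψ :=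
  ModuleCat.ExtendScalars.hom_ext h

/-- The linear map out of an extension of scalars given by a semilinear map. -/
theorem exists_ext_lift {A B : CommRingCat.{u}ᵒᵖ} (f : B ⟶ A) (M : ModuleCat.{u} (WR G A))
    (Q : Type u) [AddCommGroup Q] [Module (WR G B) Q] (g : M →+ Q)
    (hg : ∀ (x : WR G A) (m : M), g (x • m) = wr f x • g m) :
    ∃ φ : ext f M →ₗ[WR G B] Q, ∀ m, φ (one f M m) = g m := by
  let g' : M ⟶ (ModuleCat.restrictScalars (wr (G := G) f)).obj (ModuleCat.of (WR G B) Q) :=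
    ModuleCat.ofHom (Y := (ModuleCat.restrictScalars (wr (G := G) f)).obj (ModuleCat.of (WR G B) Q))
      { toFun := g, map_add' := g.map_add, map_smul' := hg }
  let ψ := ((ModuleCat.extendRestrictScalarsAdj (wr (G := G) f)).homEquiv M _).symm g'
  refine ⟨ψ.hom, fun m => ?_⟩
  show ψ ((1 : WR G B) ⊗ₜ[WR G A, wr (G := G) f] m) = _
  rw [← ModuleCat.extendRestrictScalarsAdj_homEquiv_apply, Equiv.apply_symm_apply]
  rfl

/-- The comparison of an iterated extension of scalars. -/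
def cmp {A B C : CommRingCat.{u}ᵒᵖ} (f : B ⟶ A) (g : C ⟶ B) (h : C ⟶ A) (e : g ≫ f = h)
    (M : ModuleCat.{u} (WR G A)) : ext h M ⟶ ext g (ext f M) :=
  ((pf G).mapComp' f.op.toLoc g.op.toLoc h.op.toLoc (by subst e; rfl)).hom.toNatTrans.app M

/-- Its inverse. -/
def cmpInv {A B C : CommRingCat.{u}ᵒᵖ} (f : B ⟶ A) (g : C ⟶ B) (h : C ⟶ A) (e : g ≫ f = h)
    (M : ModuleCat.{u} (WR G A)) : ext g (ext f M) ⟶ ext h M :=
  ((pf G).mapComp' f.op.toLoc g.op.toLoc h.op.toLoc (by subst e; rfl)).inv.toNatTrans.app M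

theorem map₂_one {A B : CommRingCat.{u}} {φ ψ : LocallyDiscrete.mk A ⟶ LocallyDiscrete.mk B} (h : φ = ψ)
    (M : ModuleCat.{u} A) (m : M) :
    (show (ModuleCat.extendScalars φ.as.hom).obj M ⟶ (ModuleCat.extendScalars ψ.as.hom).obj M from
      (CommRingCat.moduleCatExtendScalarsPseudofunctor.{u}.map₂ (eqToHom h)).toNatTrans.app M)
        ((1 : B) ⊗ₜ[(A : Type u), φ.as.hom] m) = (1 : B) ⊗ₜ[(A : Type u), ψ.as.hom] m := by
  subst h
  rw [eqToHom_refl, PrelaxFunctor.map₂_id]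
  rfl

theorem cmp_one {A B C : CommRingCat.{u}ᵒᵖ} (f : B ⟶ A) (g : C ⟶ B) (h : C ⟶ A) (e : g ≫ f = h)
    (M : ModuleCat.{u} (WR G A)) (m : M) : cmp f g h e M (one h M m) = one g (ext f M) (one f M m) := by
  subst e
  have h' := Pseudofunctor.mapComp'_eq_mapComp (pf G) f.op.toLoc g.op.toLoc
  refine (congrArg (fun (i : (pf G).map (f.op.toLoc ≫ g.op.toLoc) ≅
      (pf G).map f.op.toLoc ≫ (pf G).map g.op.toLoc) =>
    (show ext (g ≫ f) M ⟶ ext g (ext f M) from i.hom.toNatTrans.app M) (one (g ≫ f) M m)) h').trans ?_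
  let T := (unopUnop CommRingCat.{u} ⋙ G).toPseudofunctor
  have hT : T.map (f.op.toLoc ≫ g.op.toLoc) = T.map f.op.toLoc ≫ T.map g.op.toLoc :=
    congrArg Discrete.mk (G.map_comp f.unop g.unop)
  show (ModuleCat.extendScalarsComp (wr (G := G) f) (wr (G := G) g)).hom.app M
    ((show ext (g ≫ f) M ⟶ (ModuleCat.extendScalars ((wr (G := G) g).comp (wr f))).obj M from
        (CommRingCat.moduleCatExtendScalarsPseudofunctor.{u}.map₂ (eqToHom hT)).toNatTrans.app M)
      (one (g ≫ f) M m)) = _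
  refine (congrArg (fun z => (ModuleCat.extendScalarsComp (wr (G := G) f) (wr (G := G) g)).hom.app M z)
    (map₂_one hT M m)).trans ?_
  exact ModuleCat.extendScalarsComp_hom_app_one_tmul (wr (G := G) f) (wr g) _ m

theorem cmp_cmpInv {A B C : CommRingCat.{u}ᵒᵖ} (f : B ⟶ A) (g : C ⟶ B) (h : C ⟶ A) (e : g ≫ f = h)
    (M : ModuleCat.{u} (WR G A)) : cmpInv f g h e M ≫ cmp f g h e M = 𝟙 _ :=
  congrArg (fun t => t.toNatTrans.app M)
    ((pf G).mapComp' f.op.toLoc g.op.toLoc h.op.toLoc (by subst e; rfl)).inv_hom_id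

theorem cmpInv_cmp {A B C : CommRingCat.{u}ᵒᵖ} (f : B ⟶ A) (g : C ⟶ B) (h : C ⟶ A) (e : g ≫ f = h)
    (M : ModuleCat.{u} (WR G A)) : cmp f g h e M ≫ cmpInv f g h e M = 𝟙 _ :=
  congrArg (fun t => t.toNatTrans.app M)
    ((pf G).mapComp' f.op.toLoc g.op.toLoc h.op.toLoc (by subst e; rfl)).hom_inv_id

theorem cmpInv_one {A B C : CommRingCat.{u}ᵒᵖ} (f : B ⟶ A) (g : C ⟶ B) (h : C ⟶ A) (e : g ≫ f = h)
    (M : ModuleCat.{u} (WR G A)) (m : M) : cmpInv f g h e M (one g (ext f M) (one f M m)) = one h M m := by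
  rw [← cmp_one f g h e M m, ← ModuleCat.comp_apply, cmpInv_cmp]
  rfl

/-- Extension of scalars of a morphism. -/
abbrev extMap {A B : CommRingCat.{u}ᵒᵖ} (f : B ⟶ A) {M M' : ModuleCat.{u} (WR G A)} (φ : M ⟶ M') :
    ext f M ⟶ ext f M' := (ModuleCat.extendScalars (wr (G := G) f)).map φ

theorem extMap_one {A B : CommRingCat.{u}ᵒᵖ} (f : B ⟶ A) {M M' : ModuleCat.{u} (WR G A)} (φ : M ⟶ M') (m : M) :
    extMap f φ (one f M m) = one f M' (φ m) := ModuleCat.ExtendScalars.map_tmul _ φ (1 : WR G B) m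

variable (G) in
/-- The nerve obtained by applying the functor to the nerve of a ring map. -/
def gnerve (R S : Type u) [CommRing R] [CommRing S] [Algebra R S] :
    Nerve (G.obj (CommRingCat.of S) : Type u) (G.obj (CommRingCat.of (S ⊗[R] S)) : Type u)
      (G.obj (CommRingCat.of (S ⊗[R] (S ⊗[R] S))) : Type u) where
  pa := (G.map (CommRingCat.ofHom (nerve R S).pa)).hom
  pb := (G.map (CommRingCat.ofHom (nerve R S).pb)).hom
  f12 := (G.map (CommRingCat.ofHom (nerve R S).f12)).hom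
  f13 := (G.map (CommRingCat.ofHom (nerve R S).f13)).hom
  f23 := (G.map (CommRingCat.ofHom (nerve R S).f23)).hom
  dg := (G.map (CommRingCat.ofHom (nerve R S).dg)).hom
  f13_pa := by rw [← CommRingCat.hom_comp, ← G.map_comp, ← CommRingCat.hom_comp, ← G.map_comp,
    ← CommRingCat.ofHom_comp, ← CommRingCat.ofHom_comp, (nerve R S).f13_pa]
  f12_pb := by rw [← CommRingCat.hom_comp, ← G.map_comp, ← CommRingCat.hom_comp, ← G.map_comp,
    ← CommRingCat.ofHom_comp, ← CommRingCat.ofHom_comp, (nerve R S).f12_pb]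
  f13_pb := by rw [← CommRingCat.hom_comp, ← G.map_comp, ← CommRingCat.hom_comp, ← G.map_comp,
    ← CommRingCat.ofHom_comp, ← CommRingCat.ofHom_comp, (nerve R S).f13_pb]
  dg_pa := by rw [← CommRingCat.hom_comp, ← G.map_comp, ← CommRingCat.ofHom_comp, (nerve R S).dg_pa,
    CommRingCat.ofHom_id, G.map_id, CommRingCat.hom_id]
  dg_pb := by rw [← CommRingCat.hom_comp, ← G.map_comp, ← CommRingCat.ofHom_comp, (nerve R S).dg_pb,
    CommRingCat.ofHom_id, G.map_id, CommRingCat.hom_id]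

section Datum

variable {R S : Type u} [CommRing R] [CommRing S] [Algebra R S]
  (D : (pf G).DescentData (fun _ : PUnit.{u + 1} => (CommRingCat.ofHom (algebraMap R S)).op))

/-- The module underlying a descent datum. -/
abbrev obj : ModuleCat.{u} (WR G (op (CommRingCat.of S))) := D.obj PUnit.unit

/-- The base. -/
abbrev f₀ : op (CommRingCat.of S) ⟶ op (CommRingCat.of R) := (CommRingCat.ofHom (algebraMap R S)).op

/-- The gluing morphisms. -/
def H {Y : CommRingCat.{u}ᵒᵖ} (a b : Y ⟶ op (CommRingCat.of S)) (e : b ≫ f₀ = a ≫ f₀ (R := R)) :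
    ext a (obj D) ⟶ ext b (obj D) :=
  D.hom (a ≫ f₀) (i₁ := PUnit.unit) (i₂ := PUnit.unit) a b rfl e

theorem H_self {Y : CommRingCat.{u}ᵒᵖ} (a : Y ⟶ op (CommRingCat.of S)) :
    H D a a rfl = 𝟙 _ := D.hom_self _ _ rfl

theorem H_comp {Y : CommRingCat.{u}ᵒᵖ} (a b c : Y ⟶ op (CommRingCat.of S))
    (e : b ≫ f₀ = a ≫ f₀ (R := R)) (e' : c ≫ f₀ = b ≫ f₀ (R := R)) :
    H D a b e ≫ H D b c e' = H D a c (e'.trans e) := by
  have key : ∀ (q q' : Y ⟶ op (CommRingCat.of R)) (hq : q = q') (h₁ : b ≫ f₀ = q) (h₂ : c ≫ f₀ = q)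
      (h₁' : b ≫ f₀ = q') (h₂' : c ≫ f₀ = q'),
      D.hom q (i₁ := PUnit.unit) (i₂ := PUnit.unit) b c h₁ h₂ = D.hom q' b c h₁' h₂' := by
    rintro q q' rfl h₁ h₂ h₁' h₂'
    rfl
  have h := D.hom_comp (a ≫ f₀) (i₁ := PUnit.unit) (i₂ := PUnit.unit) (i₃ := PUnit.unit) a b c rfl e (e'.trans e)
  refine Eq.trans ?_ h
  exact congrArg (fun t => D.hom (a ≫ f₀) (i₁ := PUnit.unit) (i₂ := PUnit.unit) a b rfl e ≫ t)
    (key (b ≫ f₀) (a ≫ f₀) e rfl e' e (e'.trans e))

theorem H_natural {Y Y' : CommRingCat.{u}ᵒᵖ} (a b : Y ⟶ op (CommRingCat.of S))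
    (e : b ≫ f₀ = a ≫ f₀ (R := R)) (g : Y' ⟶ Y) (a' b' : Y' ⟶ op (CommRingCat.of S))
    (ha : g ≫ a = a') (hb : g ≫ b = b') (e' : b' ≫ f₀ = a' ≫ f₀ (R := R)) (m : obj D) :
    H D a' b' e' (one a' (obj D) m) = cmpInv b g b' hb (obj D) (one g (ext b (obj D)) (H D a b e (one a (obj D) m))) := by
  have h := D.pullHom_hom g (a ≫ f₀) (a' ≫ f₀) (by rw [← Category.assoc, ha])
    (i₁ := PUnit.unit) (i₂ := PUnit.unit) a b rfl e a' b' ha hb
  have h' : cmp a g a' ha (obj D) ≫ extMap g (H D a b e) ≫ cmpInv b g b' hb (obj D) = H D a' b' e' := h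
  rw [← h']
  show cmpInv b g b' hb (obj D) (extMap g (H D a b e) (cmp a g a' ha (obj D) (one a' (obj D) m))) = _
  rw [cmp_one, extMap_one]

end Datum

/-- Coordinates of a module on a split free cover. -/
structure Frame {A : CommRingCat.{u}ᵒᵖ} (M : ModuleCat.{u} (WR G A)) (m : ℕ) where
  /-- coordinates -/
  i : M →ₗ[WR G A] (Fin m → WR G A)
  /-- generators -/
  s : (Fin m → WR G A) →ₗ[WR G A] M
  si : ∀ x, s (i x) = x

theorem exists_frame {A : CommRingCat.{u}ᵒᵖ} (M : ModuleCat.{u} (WR G A))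
    [Module.Finite (WR G A) M] [Module.Projective (WR G A) M] :
    ∃ m, Nonempty (Frame M m) := by
  obtain ⟨m, s, hs⟩ := Module.Finite.exists_fin' (WR G A) M
  obtain ⟨i, hi⟩ := Module.projective_lifting_property s LinearMap.id hs
  exact ⟨m, ⟨⟨i, s, fun x => LinearMap.congr_fun hi x⟩⟩⟩

namespace Frame

variable {A : CommRingCat.{u}ᵒᵖ} {M : ModuleCat.{u} (WR G A)} {m : ℕ} (F : Frame M m)

/-- The idempotent of a frame. -/
def idem : Matrix (Fin m) (Fin m) (WR G A) := LinearMap.toMatrix' (F.i ∘ₗ F.s)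

theorem idem_mulVec (v : Fin m → WR G A) : F.idem.mulVec v = F.i (F.s v) := by
  rw [idem, ← Matrix.toLin'_apply, Matrix.toLin'_toMatrix']; rfl

theorem idem_mul : F.idem * F.idem = F.idem := by
  rw [idem, ← LinearMap.toMatrix'_comp]
  congr 1
  exact LinearMap.ext fun v => congrArg F.i (F.si (F.s v))

theorem idem_apply (j l : Fin m) : F.idem l j = F.i (F.s (Pi.single j 1)) l := by
  rw [idem, LinearMap.toMatrix'_apply]; rfl

variable {B : CommRingCat.{u}ᵒᵖ} (b : B ⟶ A)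

theorem exists_co : ∃ φ : ext b M →ₗ[WR G B] (Fin m → WR G B), ∀ x, φ (one b M x) = wr b ∘ F.i x :=
  exists_ext_lift b M (Fin m → WR G B)
    (AddMonoidHom.mk' (fun x => wr b ∘ F.i x) fun x y => funext fun l => by
      show wr b (F.i (x + y) l) = wr b (F.i x l) + wr b (F.i y l)
      rw [map_add F.i, Pi.add_apply, map_add])
    fun c x => funext fun l => by
      show wr b (F.i (c • x) l) = wr b c * wr b (F.i x l)
      rw [map_smul, Pi.smul_apply, smul_eq_mul, map_mul]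

/-- Coordinates after extension of scalars. -/
def co : ext b M →ₗ[WR G B] (Fin m → WR G B) := (F.exists_co b).choose

theorem co_one (x : M) : F.co b (one b M x) = wr b ∘ F.i x := (F.exists_co b).choose_spec x

/-- Generators after extension of scalars. -/
def se : (Fin m → WR G B) →ₗ[WR G B] ext b M :=
  ∑ j, (LinearMap.proj j).smulRight (one b M (F.s (Pi.single j 1)))

theorem se_apply (v : Fin m → WR G B) : F.se b v = ∑ j, v j • one b M (F.s (Pi.single j 1)) := by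
  rw [se, LinearMap.sum_apply]; rfl

theorem one_eq (x : M) : one b M x = ∑ j, wr b (F.i x j) • one b M (F.s (Pi.single j 1)) := by
  have h : x = ∑ j, F.i x j • F.s (Pi.single j 1) := by
    conv_lhs => rw [← F.si x, show F.i x = ∑ j, F.i x j • (Pi.single j 1 : Fin m → WR G A) from by
      funext l; simp [Finset.sum_apply, Pi.single_apply], map_sum]
    exact Finset.sum_congr rfl fun j _ => map_smul _ _ _
  conv_lhs => rw [h, one_sum]
  exact Finset.sum_congr rfl fun j _ => one_smul' b M _ _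

theorem se_co (x : ext b M) : F.se b (F.co b x) = x := by
  have h : ModuleCat.ofHom ((F.se b).comp (F.co b)) = 𝟙 (ext b M) := ext_hom b M fun x => by
    show F.se b (F.co b (one b M x)) = one b M x
    rw [co_one, se_apply]
    exact (F.one_eq b x).symm
  exact congrArg (fun φ : ext b M ⟶ ext b M => φ x) h

theorem co_injective : Function.Injective (F.co b) := fun x y h => by rw [← F.se_co b x, h, se_co]

theorem co_se (v : Fin m → WR G B) : F.co b (F.se b v) = (F.idem.map (wr b)).mulVec v := by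
  funext l
  rw [se_apply, map_sum, Finset.sum_apply]
  refine Finset.sum_congr rfl fun j _ => ?_
  rw [map_smul, co_one, Pi.smul_apply, smul_eq_mul]
  show v j * wr b (F.i (F.s (Pi.single j 1)) l) = wr b (F.idem l j) * v j
  rw [idem_apply, mul_comm]

variable {m' : ℕ} {M' : ModuleCat.{u} (WR G A)} (F' : Frame M' m')

theorem co_cmpInv {C : CommRingCat.{u}ᵒᵖ} (g : C ⟶ B) (b' : C ⟶ A) (hb : g ≫ b = b') (x : ext b M) :
    F.co b' (cmpInv b g b' hb M (one g (ext b M) x)) = wr g ∘ F.co b x := by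
  subst hb
  have hw : ∀ (y : WR G A), wr g (wr b y) = wr (g ≫ b) y := fun y => by
    simp only [wr, unop_comp, Functor.map_comp, CommRingCat.hom_comp]
    rfl
  conv_lhs => rw [← F.se_co b x, se_apply, one_sum, map_sum, map_sum]
  funext l
  rw [Finset.sum_apply]
  conv_rhs => rw [← F.se_co b x, co_se, Function.comp_apply, RingHom.map_mulVec]
  refine Finset.sum_congr rfl fun j _ => ?_
  rw [one_smul', map_smul, map_smul, cmpInv_one, co_one, Pi.smul_apply, smul_eq_mul]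
  show wr g (F.co b x j) * wr (g ≫ b) (F.i (F.s (Pi.single j 1)) l) = wr g (wr b (F.idem l j)) * wr g (F.co b x j)
  rw [idem_apply, hw, mul_comm]

end Frame

section DatumMatrix

variable {R S : Type u} [CommRing R] [CommRing S] [Algebra R S]
  (D : (pf G).DescentData (fun _ : PUnit.{u + 1} => (CommRingCat.ofHom (algebraMap R S)).op))
  {m : ℕ} (F : Frame (obj D) m)

/-- The matrix of a gluing morphism. -/
def mat {Y : CommRingCat.{u}ᵒᵖ} (a b : Y ⟶ op (CommRingCat.of S)) (e : b ≫ f₀ = a ≫ f₀ (R := R)) :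
    Matrix (Fin m) (Fin m) (WR G Y) :=
  Matrix.of fun l j => F.co b (H D a b e (one a (obj D) (F.s (Pi.single j 1)))) l

theorem co_H {Y : CommRingCat.{u}ᵒᵖ} (a b : Y ⟶ op (CommRingCat.of S)) (e : b ≫ f₀ = a ≫ f₀ (R := R))
    (x : ext a (obj D)) : F.co b (H D a b e x) = (mat D F a b e).mulVec (F.co a x) := by
  conv_lhs => rw [← F.se_co a x, Frame.se_apply, map_sum, map_sum]
  funext l
  rw [Finset.sum_apply]
  refine Finset.sum_congr rfl fun j _ => ?_
  rw [map_smul, map_smul, Pi.smul_apply, smul_eq_mul, mul_comm]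
  rfl

theorem mat_self {Y : CommRingCat.{u}ᵒᵖ} (a : Y ⟶ op (CommRingCat.of S)) :
    mat D F a a rfl = F.idem.map (wr a) := by
  refine Matrix.ext fun l j => ?_
  show F.co a (H D a a rfl (one a (obj D) (F.s (Pi.single j 1)))) l = _
  rw [H_self]
  show F.co a (one a (obj D) (F.s (Pi.single j 1))) l = _
  rw [Frame.co_one, Matrix.map_apply, Frame.idem_apply]
  rfl

theorem mat_mul {Y : CommRingCat.{u}ᵒᵖ} (a b c : Y ⟶ op (CommRingCat.of S))
    (e : b ≫ f₀ = a ≫ f₀ (R := R)) (e' : c ≫ f₀ = b ≫ f₀ (R := R)) :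
    mat D F b c e' * mat D F a b e = mat D F a c (e'.trans e) := by
  refine Matrix.ext fun l j => ?_
  show (mat D F b c e').mulVec (F.co b (H D a b e (one a (obj D) (F.s (Pi.single j 1))))) l =
    F.co c (H D a c (e'.trans e) (one a (obj D) (F.s (Pi.single j 1)))) l
  rw [← co_H, ← ModuleCat.comp_apply, H_comp]

theorem mat_natural {Y Y' : CommRingCat.{u}ᵒᵖ} (a b : Y ⟶ op (CommRingCat.of S))
    (e : b ≫ f₀ = a ≫ f₀ (R := R)) (g : Y' ⟶ Y) (a' b' : Y' ⟶ op (CommRingCat.of S))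
    (ha : g ≫ a = a') (hb : g ≫ b = b') (e' : b' ≫ f₀ = a' ≫ f₀ (R := R)) :
    mat D F a' b' e' = (mat D F a b e).map (wr g) := by
  refine Matrix.ext fun l j => ?_
  show F.co b' (H D a' b' e' (one a' (obj D) (F.s (Pi.single j 1)))) l = _
  rw [H_natural D a b e g a' b' ha hb e', Frame.co_cmpInv]
  rfl

/-- The double overlap. -/
abbrev Y2 : CommRingCat.{u}ᵒᵖ := op (CommRingCat.of (S ⊗[R] S))
/-- The triple overlap. -/
abbrev Y3 : CommRingCat.{u}ᵒᵖ := op (CommRingCat.of (S ⊗[R] (S ⊗[R] S)))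
/-- The first projection. -/
abbrev pa : Y2 (R := R) (S := S) ⟶ op (CommRingCat.of S) := (CommRingCat.ofHom (nerve R S).pa).op
/-- The second projection. -/
abbrev pb : Y2 (R := R) (S := S) ⟶ op (CommRingCat.of S) := (CommRingCat.ofHom (nerve R S).pb).op

theorem e2 : pb (R := R) (S := S) ≫ f₀ = pa (R := R) (S := S) ≫ f₀ (R := R) (S := S) := by
  refine Quiver.Hom.unop_inj (CommRingCat.hom_ext (RingHom.ext fun r => ?_))
  show (1 : S) ⊗ₜ[R] algebraMap R S r = algebraMap R S r ⊗ₜ[R] (1 : S)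
  rw [Algebra.algebraMap_eq_smul_one, TensorProduct.smul_tmul]

theorem exists_lift_overlap {Y : CommRingCat.{u}ᵒᵖ} (a b : Y ⟶ op (CommRingCat.of S))
    (e : b ≫ f₀ = a ≫ f₀ (R := R)) :
    ∃ g : Y ⟶ Y2 (R := R) (S := S), g ≫ pa (R := R) (S := S) = a ∧ g ≫ pb (R := R) (S := S) = b := by
  letI : Algebra R Y.unop := (a ≫ f₀ (R := R)).unop.hom.toAlgebra
  let la : S →ₐ[R] Y.unop := { a.unop.hom with commutes' := fun _ => rfl }
  let lb : S →ₐ[R] Y.unop := { b.unop.hom with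
    commutes' := fun r => RingHom.congr_fun (congrArg (fun (h : Y ⟶ op (CommRingCat.of R)) => h.unop.hom) e) r }
  refine ⟨(CommRingCat.ofHom (Algebra.TensorProduct.lift la lb fun _ _ => Commute.all _ _).toRingHom).op,
    Quiver.Hom.unop_inj (CommRingCat.hom_ext (RingHom.ext fun s => ?_)),
    Quiver.Hom.unop_inj (CommRingCat.hom_ext (RingHom.ext fun s => ?_))⟩
  · show (Algebra.TensorProduct.lift la lb fun _ _ => Commute.all _ _) (s ⊗ₜ 1) = a.unop.hom s
    simp [la, lb]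
  · show (Algebra.TensorProduct.lift la lb fun _ _ => Commute.all _ _) (1 ⊗ₜ s) = b.unop.hom s
    simp [la, lb]

theorem dat : Dat (gnerve G R S) F.idem (mat D F pa pb e2) (mat D F pb pa e2.symm) := by
  let g12 : Y3 (R := R) (S := S) ⟶ Y2 (R := R) (S := S) := (CommRingCat.ofHom (nerve R S).f12).op
  let g13 : Y3 (R := R) (S := S) ⟶ Y2 (R := R) (S := S) := (CommRingCat.ofHom (nerve R S).f13).op
  let g23 : Y3 (R := R) (S := S) ⟶ Y2 (R := R) (S := S) := (CommRingCat.ofHom (nerve R S).f23).op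
  have h13a : g13 ≫ pa (R := R) (S := S) = g12 ≫ pa :=
    Quiver.Hom.unop_inj (CommRingCat.hom_ext (nerve R S).f13_pa)
  have h12b : g12 ≫ pb (R := R) (S := S) = g23 ≫ pa :=
    Quiver.Hom.unop_inj (CommRingCat.hom_ext (nerve R S).f12_pb)
  have h13b : g13 ≫ pb (R := R) (S := S) = g23 ≫ pb :=
    Quiver.Hom.unop_inj (CommRingCat.hom_ext (nerve R S).f13_pb)
  have eg : ∀ g : Y3 (R := R) (S := S) ⟶ Y2 (R := R) (S := S),
      (g ≫ pb) ≫ f₀ = (g ≫ pa) ≫ f₀ (R := R) (S := S) := fun g => by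
    rw [Category.assoc, Category.assoc, e2]
  have hn : ∀ (g : Y3 (R := R) (S := S) ⟶ Y2 (R := R) (S := S)) (a b : Y3 (R := R) (S := S) ⟶ op (CommRingCat.of S))
      (ha : g ≫ pa = a) (hb : g ≫ pb = b) (e' : b ≫ f₀ = a ≫ f₀ (R := R)),
      (mat D F pa pb e2).map (wr g) = mat D F a b e' ∧
      (mat D F pb pa e2.symm).map (wr g) = mat D F b a e'.symm := fun g a b ha hb e' =>
    ⟨(mat_natural D F pa pb e2 g a b ha hb e').symm, (mat_natural D F pb pa e2.symm g b a hb ha e'.symm).symm⟩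
  have p01 : g12 ≫ pa (R := R) (S := S) = g12 ≫ pa := rfl
  have e12 := eg g12
  have e23 : (g23 ≫ pb) ≫ f₀ = (g12 ≫ pb) ≫ f₀ (R := R) (S := S) := by rw [h12b]; exact eg g23
  have h12 := hn g12 (g12 ≫ pa) (g12 ≫ pb) rfl rfl e12
  have h23 := hn g23 (g12 ≫ pb) (g23 ≫ pb) h12b.symm rfl e23
  have h13 := hn g13 (g12 ≫ pa) (g23 ≫ pb) h13a h13b (e23.trans e12)
  let Δ : op (CommRingCat.of S) ⟶ Y2 (R := R) (S := S) := (CommRingCat.ofHom (nerve R S).dg).op
  have hΔa : Δ ≫ pa (R := R) (S := S) = 𝟙 _ := Quiver.Hom.unop_inj (CommRingCat.hom_ext (nerve R S).dg_pa)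
  have hΔb : Δ ≫ pb (R := R) (S := S) = 𝟙 _ := Quiver.Hom.unop_inj (CommRingCat.hom_ext (nerve R S).dg_pb)
  have hid : wr (G := G) (𝟙 (op (CommRingCat.of S))) = RingHom.id _ := by
    simp only [wr, unop_id, CategoryTheory.Functor.map_id, CommRingCat.hom_id]
  constructor
  · exact F.idem_mul
  · exact (mat_mul D F pb pa pb e2.symm e2).trans (mat_self D F pb)
  · exact (mat_mul D F pa pb pa e2 e2.symm).trans (mat_self D F pa)
  · show F.idem.map (wr pb) * _ = _
    rw [← mat_self D F pb]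
    exact mat_mul D F pa pb pb e2 rfl
  · show _ * F.idem.map (wr pa) = _
    rw [← mat_self D F pa]
    exact mat_mul D F pa pa pb rfl e2
  · show F.idem.map (wr pa) * _ = _
    rw [← mat_self D F pa]
    exact mat_mul D F pb pa pa e2.symm rfl
  · show _ * F.idem.map (wr pb) = _
    rw [← mat_self D F pb]
    exact mat_mul D F pb pb pa rfl e2.symm
  · show (mat D F pa pb e2).map (wr g23) * (mat D F pa pb e2).map (wr g12) = (mat D F pa pb e2).map (wr g13)
    rw [h12.1, h23.1, h13.1]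
    exact mat_mul D F _ _ _ e12 e23
  · show (mat D F pb pa e2.symm).map (wr g12) * (mat D F pb pa e2.symm).map (wr g23) =
      (mat D F pb pa e2.symm).map (wr g13)
    rw [h12.2, h23.2, h13.2]
    exact mat_mul D F _ _ _ e23.symm e12.symm
  · show (mat D F pa pb e2).map (wr Δ) = _
    rw [← mat_natural D F pa pb e2 Δ (𝟙 _) (𝟙 _) hΔa hΔb rfl, mat_self, hid]
    rfl
  · show (mat D F pb pa e2.symm).map (wr Δ) = _
    rw [← mat_natural D F pb pa e2.symm Δ (𝟙 _) (𝟙 _) hΔb hΔa rfl, mat_self, hid]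
    rfl

end DatumMatrix

end Groth.Agent.WittDesc.DD
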