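import Groth.Prelude.Def_WittGrp
import Mathlib

/-! The filtration of truncated Witt vectors by leading zeros and the ghost maps acting on its pieces. -/

set_option autoImplicit false
universe u

noncomputable section

namespace Groth.Agent.WittDesc

variable (p : ℕ) [hp : Fact p.Prime] (n : ℕ) {R R' : Type u} [CommRing R] [CommRing R']

theorem coeff_iterate_verschiebung_of_lt (Y : WittVector p R) :
    ∀ (i k : ℕ), k < i → (WittVector.verschiebung^[i] Y).coeff k = 0
  | 0, k, h => absurd h (Nat.not_lt_zero k)
  | i + 1, 0, _ => by rw [Function.iterate_succ_apply', WittVector.verschiebung_coeff_zero]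
  | i + 1, k + 1, h => by
    rw [Function.iterate_succ_apply', WittVector.verschiebung_coeff_succ]
    exact coeff_iterate_verschiebung_of_lt Y i k (Nat.lt_of_succ_lt_succ h)

theorem iterate_verschiebung_add (X Y : WittVector p R) : ∀ i : ℕ,
    WittVector.verschiebung^[i] (X + Y) = WittVector.verschiebung^[i] X + WittVector.verschiebung^[i] Y
  | 0 => rfl
  | i + 1 => by
    rw [Function.iterate_succ_apply', Function.iterate_succ_apply', Function.iterate_succ_apply',
      iterate_verschiebung_add X Y i, map_add]

theorem ghostComponent_eq_sum (X : WittVector p R) (i : ℕ) : WittVector.ghostComponent i X =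
    ∑ j ∈ Finset.range (i + 1), (p : R) ^ j * X.coeff j ^ p ^ (i - j) := by
  rw [WittVector.ghostComponent_apply, aeval_wittPolynomial]

theorem coeff_zero_iterate_frobenius (Y : WittVector p R) (i : ℕ) :
    (WittVector.frobenius^[i] Y).coeff 0 = WittVector.ghostComponent i Y := by
  have h : ∀ (Z : WittVector p R) (i j : ℕ),
      WittVector.ghostComponent j (WittVector.frobenius^[i] Z) = WittVector.ghostComponent (i + j) Z := by
    intro Z i
    induction i with
    | zero => intro j; rw [Function.iterate_zero_apply, zero_add]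
    | succ i ih =>
      intro j
      rw [Function.iterate_succ_apply', WittVector.ghostComponent_frobenius, ih]
      congr 1
      rw [Nat.succ_add, Nat.add_succ]
  have h0 := h Y i 0
  rw [add_zero] at h0
  rw [← h0, ghostComponent_eq_sum]
  simp

/-- The ghost map of index `i` on truncated Witt vectors. -/
def gam (i : Fin n) : TruncatedWittVector p n R →+* R :=
  (WittVector.truncate (p := p) (R := R) n).liftOfSurjective (WittVector.truncate_surjective p n R)
    ⟨WittVector.ghostComponent (p := p) (R := R) i, fun X hX => by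
      rw [RingHom.mem_ker] at hX ⊢
      rw [ghostComponent_eq_sum]
      refine Finset.sum_eq_zero fun j hj => ?_
      have hj' : j < n := by have := Finset.mem_range.mp hj; omega
      have h : X.coeff j = 0 := by
        have := congrArg (TruncatedWittVector.coeff ⟨j, hj'⟩) hX
        rwa [WittVector.coeff_truncate, TruncatedWittVector.coeff_zero] at this
      rw [h, zero_pow (pow_ne_zero _ hp.out.ne_zero), mul_zero]⟩

theorem gam_truncate (i : Fin n) (X : WittVector p R) :
    gam p n i (WittVector.truncate n X) = WittVector.ghostComponent i X :=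
  RingHom.liftOfRightInverse_comp_apply _ _ _ _ _

theorem gam_truncMap (f : R →+* R') (i : Fin n) (x : TruncatedWittVector p n R) :
    gam p n i (WittGrp.truncMap p n f x) = f (gam p n i x) := by
  obtain ⟨X, rfl⟩ := WittVector.truncate_surjective p n R x
  rw [WittGrp.truncMap_truncate, gam_truncate, gam_truncate, ghostComponent_eq_sum, ghostComponent_eq_sum,
    map_sum]
  simp [map_mul, map_pow, map_natCast, WittVector.map_coeff]

theorem gam_zero (h : 0 < n) (x : TruncatedWittVector p n R) :
    gam p n ⟨0, h⟩ x = TruncatedWittVector.coeff ⟨0, h⟩ x := by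
  obtain ⟨X, rfl⟩ := WittVector.truncate_surjective p n R x
  rw [gam_truncate, WittVector.coeff_truncate, ghostComponent_eq_sum]
  simp

theorem exists_eq_verschiebung {i : ℕ} {x : TruncatedWittVector p n R}
    (hx : ∀ j : Fin n, (j : ℕ) < i → TruncatedWittVector.coeff j x = 0) :
    ∃ Y : WittVector p R, x = WittVector.truncate n (WittVector.verschiebung^[i] Y) := by
  refine ⟨WittVector.mk p fun k => if h : k + i < n then TruncatedWittVector.coeff ⟨k + i, h⟩ x else 0,
    TruncatedWittVector.ext fun j => ?_⟩
  rw [WittVector.coeff_truncate]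
  by_cases hj : (j : ℕ) < i
  · rw [hx j hj, coeff_iterate_verschiebung_of_lt p _ _ _ hj]
  · obtain ⟨k, hk⟩ : ∃ k, (j : ℕ) = k + i := ⟨j - i, by omega⟩
    rw [hk, WittVector.iterate_verschiebung_coeff, WittVector.coeff_mk, dif_pos (by have := j.2; omega)]
    congr
    exact Fin.ext hk

/-- The ideal of vectors whose first `i` components vanish. -/
def fil (i : ℕ) : Ideal (TruncatedWittVector p n R) where
  carrier := {x | ∀ j : Fin n, (j : ℕ) < i → TruncatedWittVector.coeff j x = 0}
  zero_mem' := fun j _ => TruncatedWittVector.coeff_zero ..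
  add_mem' := fun {x y} hx hy j hj => by
    obtain ⟨X, rfl⟩ := exists_eq_verschiebung p n hx
    obtain ⟨Y, rfl⟩ := exists_eq_verschiebung p n hy
    rw [← map_add, ← iterate_verschiebung_add, WittVector.coeff_truncate,
      coeff_iterate_verschiebung_of_lt p _ _ _ hj]
  smul_mem' := fun c x hx j hj => by
    obtain ⟨X, rfl⟩ := exists_eq_verschiebung p n hx
    obtain ⟨C, rfl⟩ := WittVector.truncate_surjective p n R c
    rw [smul_eq_mul, mul_comm, ← map_mul, WittVector.iterate_verschiebung_mul_left,
      WittVector.coeff_truncate, coeff_iterate_verschiebung_of_lt p _ _ _ hj]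

theorem mem_fil {i : ℕ} {x : TruncatedWittVector p n R} :
    x ∈ fil p n i ↔ ∀ j : Fin n, (j : ℕ) < i → TruncatedWittVector.coeff j x = 0 := Iff.rfl

theorem coeff_add_of_mem (i : Fin n) {x y : TruncatedWittVector p n R} (hx : x ∈ fil p n (i : ℕ))
    (hy : y ∈ fil p n (i : ℕ)) : TruncatedWittVector.coeff i (x + y) =
      TruncatedWittVector.coeff i x + TruncatedWittVector.coeff i y := by
  obtain ⟨X, rfl⟩ := exists_eq_verschiebung p n hx
  obtain ⟨Y, rfl⟩ := exists_eq_verschiebung p n hy
  rw [← map_add, ← iterate_verschiebung_add, WittVector.coeff_truncate, WittVector.coeff_truncate,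
    WittVector.coeff_truncate]
  have h : ∀ Z : WittVector p R, (WittVector.verschiebung^[(i : ℕ)] Z).coeff i = Z.coeff 0 := fun Z => by
    have := WittVector.iterate_verschiebung_coeff Z i 0
    rwa [zero_add] at this
  rw [h, h, h, WittVector.add_coeff_zero]

theorem coeff_sub_of_mem (i : Fin n) {x y : TruncatedWittVector p n R} (hx : x ∈ fil p n (i : ℕ))
    (hy : y ∈ fil p n (i : ℕ)) : TruncatedWittVector.coeff i (x - y) =
      TruncatedWittVector.coeff i x - TruncatedWittVector.coeff i y := by
  have h := coeff_add_of_mem p n i (Ideal.sub_mem _ hx hy) hy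
  rw [sub_add_cancel] at h
  rw [h, add_sub_cancel_right]

theorem coeff_mul_of_mem (i : Fin n) (c : TruncatedWittVector p n R) {x : TruncatedWittVector p n R}
    (hx : x ∈ fil p n (i : ℕ)) :
    TruncatedWittVector.coeff i (c * x) = gam p n i c * TruncatedWittVector.coeff i x := by
  obtain ⟨X, rfl⟩ := exists_eq_verschiebung p n hx
  obtain ⟨C, rfl⟩ := WittVector.truncate_surjective p n R c
  have h : ∀ Z : WittVector p R, (WittVector.verschiebung^[(i : ℕ)] Z).coeff i = Z.coeff 0 := fun Z => by
    have := WittVector.iterate_verschiebung_coeff Z i 0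
    rwa [zero_add] at this
  rw [mul_comm, ← map_mul, WittVector.iterate_verschiebung_mul_left, WittVector.coeff_truncate,
    WittVector.coeff_truncate, h, h, WittVector.mul_coeff_zero, coeff_zero_iterate_frobenius, gam_truncate,
    mul_comm]

theorem coeff_sum_of_mem (i : Fin n) {ι : Type*} (s : Finset ι) (g : ι → TruncatedWittVector p n R)
    (hg : ∀ k ∈ s, g k ∈ fil p n (i : ℕ)) :
    TruncatedWittVector.coeff i (∑ k ∈ s, g k) = ∑ k ∈ s, TruncatedWittVector.coeff i (g k) := by
  classical
  induction s using Finset.induction_on with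
  | empty => simp
  | @insert a s ha ih =>
    rw [Finset.sum_insert ha, Finset.sum_insert ha, coeff_add_of_mem p n i (hg a (Finset.mem_insert_self a s))
      (Ideal.sum_mem _ fun k hk => hg k (Finset.mem_insert_of_mem hk)),
      ih fun k hk => hg k (Finset.mem_insert_of_mem hk)]

theorem mem_fil_succ {i : Fin n} {x : TruncatedWittVector p n R} (hx : x ∈ fil p n (i : ℕ))
    (h : TruncatedWittVector.coeff i x = 0) : x ∈ fil p n ((i : ℕ) + 1) := by
  intro j hj
  rcases Nat.lt_succ_iff_lt_or_eq.mp hj with hj' | hj'
  · exact hx j hj'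
  · rw [Fin.ext hj', h]

theorem eq_zero_of_mem_fil {i : ℕ} (hi : n ≤ i) {x : TruncatedWittVector p n R} (hx : x ∈ fil p n i) :
    x = 0 :=
  TruncatedWittVector.ext fun j => by rw [hx j (j.2.trans_le hi), TruncatedWittVector.coeff_zero]

theorem mem_fil_zero (x : TruncatedWittVector p n R) : x ∈ fil p n 0 :=
  fun j hj => absurd hj (Nat.not_lt_zero _)

/-- The vector with the single component `r` at `i`. -/
def tau (i : Fin n) (r : R) : TruncatedWittVector p n R :=
  TruncatedWittVector.mk p fun j => if j = i then r else 0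

theorem coeff_tau (i : Fin n) (r : R) : TruncatedWittVector.coeff i (tau p n i r) = r := by
  rw [tau, TruncatedWittVector.coeff_mk, if_pos rfl]

theorem tau_mem (i : Fin n) (r : R) : tau p n i r ∈ fil p n (i : ℕ) := fun j hj => by
  rw [tau, TruncatedWittVector.coeff_mk, if_neg]
  exact fun h => (lt_irrefl _) (h ▸ hj)

theorem truncMap_mem (f : R →+* R') {i : ℕ} {x : TruncatedWittVector p n R} (hx : x ∈ fil p n i) :
    WittGrp.truncMap p n f x ∈ fil p n i := fun j hj => by
  rw [WittGrp.coeff_truncMap, hx j hj, map_zero]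

theorem gam_isNilpotent_of_mem (hpn : IsNilpotent (p : R)) (i : Fin n) {x : TruncatedWittVector p n R}
    (hx : x ∈ fil p n 1) : IsNilpotent (gam p n i x) := by
  obtain ⟨X, rfl⟩ := WittVector.truncate_surjective p n R x
  rw [gam_truncate, ghostComponent_eq_sum]
  refine isNilpotent_sum fun j hj => ?_
  cases j with
  | zero =>
    have h := hx ⟨0, by have := i.2; omega⟩ Nat.one_pos
    rw [WittVector.coeff_truncate] at h
    change X.coeff 0 = 0 at h
    rw [h, zero_pow (pow_ne_zero _ hp.out.ne_zero), mul_zero]
    exact IsNilpotent.zero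
  | succ j => exact (Commute.all _ _).isNilpotent_mul_right (hpn.pow_succ j)

/-- Vectors with vanishing constant component are nilpotent when `p` is. -/
theorem isNilpotent_of_mem_fil_one (hpn : IsNilpotent (p : R)) {x : TruncatedWittVector p n R}
    (hx : x ∈ fil p n 1) : IsNilpotent x := by
  suffices h : ∀ i : ℕ, ∃ M : ℕ, x ^ M ∈ fil p n i by
    obtain ⟨M, hM⟩ := h n
    exact ⟨M, eq_zero_of_mem_fil p n le_rfl hM⟩
  intro i
  induction i with
  | zero => exact ⟨0, mem_fil_zero p n _⟩
  | succ i ih =>
    obtain ⟨M, hM⟩ := ih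
    by_cases hi : i < n
    · obtain ⟨N, hN⟩ := gam_isNilpotent_of_mem p n hpn ⟨i, hi⟩ hx
      refine ⟨N + M, mem_fil_succ p n (i := ⟨i, hi⟩) ?_ ?_⟩
      · rw [pow_add]; exact Ideal.mul_mem_left _ _ hM
      · rw [pow_add, coeff_mul_of_mem p n ⟨i, hi⟩ _ (x := x ^ M) hM, map_pow, hN, zero_mul]
    · exact ⟨M, fun j hj => hM j (j.2.trans_le (Nat.le_of_not_lt hi))⟩

theorem truncMap_injective {f : R →+* R'} (hf : Function.Injective f) :
    Function.Injective (WittGrp.truncMap p n f) := fun x y h => TruncatedWittVector.ext fun j =>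
  hf (by rw [← WittGrp.coeff_truncMap, ← WittGrp.coeff_truncMap, h])

theorem truncMap_comp_apply {R'' : Type u} [CommRing R''] (f : R →+* R') (g : R' →+* R'')
    (x : TruncatedWittVector p n R) :
    WittGrp.truncMap p n g (WittGrp.truncMap p n f x) = WittGrp.truncMap p n (g.comp f) x := by
  rw [WittGrp.truncMap_comp]; rfl

end Groth.Agent.WittDesc
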